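import Cfsg.Agent.Lib.GLC.ClassNum

/-!
Bounds for the class numbers of `SL` and `PSL`.
-/

set_option autoImplicit false

namespace Cfsg.Lib.GLC

open Module Polynomial LinearMap Matrix Finset

theorem card_conjClasses_quot_center (G : Type*) [Group G] [Finite G] [Fintype (Subgroup.center G)] :
    Nat.card (ConjClasses (G ⧸ Subgroup.center G)) * Nat.card (Subgroup.center G) =
      ∑ z : Subgroup.center G, Nat.card {C : ConjClasses G // IsConj (C.out * z) C.out} := by
  classical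
  have h0 : ∀ (z : Subgroup.center G) {a b : G}, IsConj a b → IsConj (a * z) (b * z) := fun z a b h => by
    obtain ⟨c, rfl⟩ := isConj_iff.1 h
    exact isConj_iff.2 ⟨c, by rw [mul_assoc c a, mul_assoc, mul_assoc, mul_assoc, mul_assoc,
      Subgroup.mem_center_iff.1 z.2 c⁻¹]⟩
  letI : MulAction (Subgroup.center G) (ConjClasses G) :=
    { smul := fun z => Quotient.map' (· * z.1) fun _ _ => h0 z
      one_smul := by rintro ⟨a⟩; exact congrArg ConjClasses.mk (mul_one a)
      mul_smul := by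
        rintro y z ⟨a⟩
        exact congrArg ConjClasses.mk (show a * (y * z) = a * z * y by rw [mul_assoc, Subgroup.mem_center_iff.1 z.2]) }
  have := Fintype.ofFinite (ConjClasses G)
  have := Fintype.ofFinite (Quotient (MulAction.orbitRel (Subgroup.center G) (ConjClasses G)))
  have h1 := MulAction.sum_card_fixedBy_eq_card_orbits_mul_card_group (Subgroup.center G) (ConjClasses G)
  simp only [← Nat.card_eq_fintype_card] at h1
  have h2 : Nat.card (ConjClasses (G ⧸ Subgroup.center G)) =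
      Nat.card (Quotient (MulAction.orbitRel (Subgroup.center G) (ConjClasses G))) := by
    rw [← Nat.card_congr (Setoid.quotientKerEquivOfSurjective (ConjClasses.map (QuotientGroup.mk' _))
      (ConjClasses.map_surjective (QuotientGroup.mk'_surjective _)))]
    congr 2
    ext ⟨a⟩ ⟨b⟩
    exact eq_comm.trans (ConjClasses.mk_eq_mk_iff_isConj.trans (isConj_quot_center_iff.trans
      ⟨fun ⟨z, hz, h⟩ => ⟨⟨z, hz⟩, Quotient.sound h⟩, fun ⟨z, h⟩ => ⟨z, z.2, Quotient.exact h⟩⟩))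
  rw [h2, ← h1]
  refine sum_congr rfl fun z _ => Nat.card_congr (Equiv.subtypeEquivRight fun C => ?_)
  conv_lhs => rw [← C.out_eq]
  exact ConjClasses.mk_eq_mk_iff_isConj

theorem cc_stab {a : ℕ → ℕ → ℕ} (h : ∀ i, a i 0 = 1) {j m : ℕ} (hj : m ≤ j) : cc a j m = cc a m m := by
  induction hj with
  | refl => rfl
  | step hj ih => simpa [cc, Nat.div_eq_of_lt (Nat.lt_succ_of_le hj), h] using ih

theorem sum_divisors_le {c : ℕ → ℕ} {K Q N m : ℕ} (hc : ∀ k, c k ≤ K * (Q + 1) ^ k) (hN : N ≠ 0) (hm : m ≠ 0) :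
    Q * ∑ g ∈ (m.gcd N).divisors, (g ^ 2 - 1) * c (m / g) ≤ N ^ 2 * K * (Q + 1) ^ (m / 2 + 1) := by
  calc Q * ∑ g ∈ (m.gcd N).divisors, (g ^ 2 - 1) * c (m / g)
      = Q * ∑ g ∈ (m.gcd N).divisors.erase 1, (g ^ 2 - 1) * c (m / g) := by rw [sum_erase _ (by simp)]
    _ ≤ Q * ∑ g ∈ (m.gcd N).divisors.erase 1, N ^ 2 * K * (Q + 1) ^ (m / g) := by
      refine Nat.mul_le_mul_left _ (sum_le_sum fun g hg => mul_assoc (N ^ 2) _ _ ▸ Nat.mul_le_mul ?_ (hc _))
      exact (Nat.sub_le _ _).trans (Nat.pow_le_pow_left (Nat.le_of_dvd (Nat.pos_of_ne_zero hN)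
        ((Nat.dvd_of_mem_divisors (mem_of_mem_erase hg)).trans (Nat.gcd_dvd_right _ _))) _)
    _ ≤ Q * ∑ k ∈ range (m / 2 + 1), N ^ 2 * K * (Q + 1) ^ k := by
      refine Nat.mul_le_mul_left _ ((sum_image (f := fun k => N ^ 2 * K * (Q + 1) ^ k) fun g hg g' hg' e => ?_).symm.trans_le
        (sum_le_sum_of_subset (image_subset_iff.2 fun g hg => mem_range.2 (Nat.lt_succ_of_le ?_))))
      · have h : ∀ g ∈ (m.gcd N).divisors.erase 1, g ∣ m := fun g hg =>
          (Nat.dvd_of_mem_divisors (mem_of_mem_erase hg)).trans (Nat.gcd_dvd_left _ _)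
        rw [← Nat.div_div_self (h g hg) hm, show m / g = m / g' from e, Nat.div_div_self (h g' hg') hm]
      · have := Nat.pos_of_mem_divisors (mem_of_mem_erase hg)
        exact Nat.div_le_div_left (by have := ne_of_mem_erase hg; omega) two_pos
    _ ≤ _ := by
      rw [← mul_sum, mul_left_comm]
      exact Nat.mul_le_mul_left _ (by rw [← geom_sum_mul_add Q, mul_comm]; exact le_self_add)

section lin

variable {Q j m : ℕ}

theorem cc_gl_le' (Q j m : ℕ) : cc (aN Q (Q + 1)) j m ≤ (Q + 1) ^ m := by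
  rcases eq_or_ne m 0 with rfl | h
  · simp [cc_zero (a := aN Q (Q + 1)) fun _ => rfl]
  · exact le_self_add.trans (cc_gl_le Q j m h)

theorem cc_gl_one (Q j : ℕ) : cc (aN Q (Q + 1)) j 1 ≤ Q := by
  have := cc_gl_le Q j 1 one_ne_zero
  have := Nat.one_le_pow (1 - j) _ Q.succ_pos
  simp at *
  omega

theorem cc_gl_two (Q j : ℕ) : cc (aN Q (Q + 1)) j 2 ≤ Q * (Q + 2) := by
  have := cc_gl_le Q j 2 two_ne_zero
  have := Nat.one_le_pow (2 - j) _ Q.succ_pos
  simp at *
  nlinarith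

theorem wt_gl_one (Q j : ℕ) : wt Q (Q + 1) j 1 ≤ Q := by simpa [wt] using cc_gl_one Q j

theorem wt_gl_two (Q j : ℕ) : wt Q (Q + 1) j 2 ≤ Q * (Q + 1 + if 2 ∣ Q then 4 else 1) := by
  have := cc_gl_one Q j
  have := cc_gl_two Q j
  rw [wt]
  split_ifs with h
  · rw [Nat.gcd_eq_left h, Nat.prime_two.sum_divisors]
    simp
    nlinarith
  · simpa [Nat.prime_two.coprime_iff_not_dvd.2 h]

theorem wt_gl_le (hQ : Q ≠ 0) (hm : 3 ≤ m) (hj : m ≤ j) :
    wt Q (Q + 1) j m ≤ Q * ((Q + 1) ^ (m - 1) + 3 * (Q + 1) ^ (m - 2)) := by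
  have h0 := Nat.pos_of_ne_zero hQ
  have h1 := cc_gl_one Q j
  have h2 := cc_gl_two Q j
  have h4 := cc_gl_le' Q j m
  rw [wt]
  rcases hm.eq_or_lt with rfl | hm
  · have h3 : cc (aN Q (Q + 1)) j 3 = Q * (Q + 1) * (Q + 2) := by
      rw [cc_stab (fun _ => rfl) hj]
      simp [cc, aN, sum_range_succ]
      ring
    by_cases h : 3 ∣ Q
    · rw [Nat.gcd_eq_left h, Nat.prime_three.sum_divisors]
      have := Nat.le_of_dvd h0 h
      simp
      nlinarith
    · simp [Nat.prime_three.coprime_iff_not_dvd.2 h]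
      nlinarith
  rcases (Nat.succ_le_of_lt hm).eq_or_lt with rfl | hm
  · have h5 := Nat.le_of_dvd h0 (Nat.gcd_dvd_right 4 Q)
    have h6 : Nat.gcd 4 Q ∈ Nat.divisors 4 := Nat.mem_divisors.2 ⟨Nat.gcd_dvd_left _ _, by simp⟩
    rw [show Nat.divisors 4 = {1, 2, 4} by decide] at h6
    simp only [mem_insert, mem_singleton] at h6
    rcases h6 with h6 | h6 | h6 <;> rw [h6] at h5 ⊢
    · simp at *
      nlinarith [pow_pos h0 3]
    · rw [Nat.prime_two.sum_divisors]
      simp at *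
      nlinarith [pow_pos h0 3]
    · rw [show Nat.divisors 4 = {1, 2, 4} by decide]
      simp at *
      nlinarith [pow_pos h0 3]
  have h5 := sum_divisors_le (K := 1) (m := m) (fun k => (cc_gl_le' Q j k).trans_eq (one_mul _).symm) hQ (by omega)
  obtain ⟨m, rfl⟩ := Nat.exists_eq_add_of_le' (show 2 ≤ m by omega)
  have h6 := Nat.pow_le_pow_right Q.succ_pos (show (m + 2) / 2 + 1 ≤ m by omega)
  rw [mul_one, _root_.sq, mul_assoc] at h5
  have h7 := (Nat.le_of_mul_le_mul_left h5 h0).trans (Nat.mul_le_mul_left _ h6)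
  simp only [pow_succ, Nat.add_one_sub_one, Nat.add_sub_cancel, show m + 2 - 1 = m + 1 from rfl] at *
  nlinarith [pow_pos Q.succ_pos m]

theorem two_mul_wt_gl_le (hQ : Q ≠ 0) (hm : m ≠ 0) (hj : m ≤ j) : 2 * wt Q (Q + 1) j m ≤ Q * (5 * (Q + 1) ^ (m - 1)) := by
  have h0 := Nat.pos_of_ne_zero hQ
  rcases m with _ | _ | _ | m
  · omega
  · have := wt_gl_one Q j
    simp at *
    omega
  · have := wt_gl_two Q j
    split_ifs at this with h
    · have := Nat.le_of_dvd h0 h
      simp at *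
      nlinarith
    · simp at *
      nlinarith
  · have := wt_gl_le hQ (show 3 ≤ m + 1 + 1 + 1 by omega) hj
    simp only [pow_succ, Nat.add_one_sub_one, show m + 1 + 1 + 1 - 2 = m + 1 from rfl] at *
    nlinarith [pow_pos Q.succ_pos m, mul_pos h0 (mul_pos (pow_pos Q.succ_pos m) Q.succ_pos)]

end lin

variable {F : Type*} [Field F] [Finite F] {n : ℕ}

theorem card_fiber_le [NeZero n] (C : ConjClasses (SpecialLinearGroup (Fin n) F))
    {p : ConjClasses (SpecialLinearGroup (Fin n) F) → Prop}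
    (h : ∀ D, p D → sq (typ (toLin' D.out.1)) = sq (typ (toLin' C.out.1))) :
    Nat.card {D // p D} ≤ (pwr natDegree Fˣ (sq (typ (toLin' C.out.1)))).index :=
  (Nat.card_le_card_of_injective _ (Subtype.impEmbedding _ _ fun D hD => ⟨D.out, D.out_eq,
    sim_iff_typ_eq.2 (eq_of_sq_eq (typ_pp _) (typ_pp _) (h D hD)).symm⟩).injective).trans
    ((card_sl_classes_sim C.out).trans_le (Subgroup.index_antitone (pwr_le_detC _)))

theorem card_fixed_le [NeZero n] {z : F} (hz : 0 < orderOf z) :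
    Nat.card {C : ConjClasses (SpecialLinearGroup (Fin n) F) // Sim (z • toLin' C.out.1) (toLin' C.out.1)} *
      (Nat.card F - 1) ≤ wt (Nat.card F - 1) (Nat.card F) n (n / orderOf z) := by
  have hz0 := (orderOf_pos_iff.1 hz).isUnit.ne_zero
  have h1 : ∀ (C : {C : ConjClasses (SpecialLinearGroup (Fin n) F) // Sim (z • toLin' C.out.1) (toLin' C.out.1)}) i,
      MC (sq (typ (toLin' C.1.out.1)) i) := fun C => mc_sq_typ (isUnit_toLin'_gl (SpecialLinearGroup.toGL C.1.out))
  have h2 := fun C i => expand_contract_of_scaleRoots (h1 C i).2 hz ((sq_typ_smul _ hz0 i).symm.trans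
    (congrArg (sq · i) C.2.typ_eq))
  have h3 := fun C i => (congrArg natDegree (h2 C i)).symm.trans (natDegree_expand _ _)
  have h4 : ∀ P : F[X], (contract (orderOf z) P).coeff 0 = P.coeff 0 := fun P => by rw [coeff_contract hz.ne', zero_mul]
  refine card_mul_le_wt (fun C => ⟨fun i => contract (orderOf z) (sq (typ (toLin' C.1.out.1)) i), fun i =>
    ⟨(monic_expand_iff hz).1 ((h2 C i).symm ▸ (h1 C i).1), (h4 _).trans_ne (h1 C i).2⟩, fun i hi =>
      (sq_typ_mem _ (by simp)).1 i (h3 C i ▸ mul_ne_zero hi hz.ne'), (Nat.div_eq_of_eq_mul_left hz ?_).symm⟩)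
    (ζ := (-1) ^ n) (fun C => ?_) fun C => ?_
  · simpa [h3, sum_mul, mul_assoc] using (sq_typ_mem (toLin' C.1.out.1) (j := n) (by simp)).2.symm
  · simpa [h4, C.1.out.2] using prod_coeff_sq (toLin' C.1.out.1) (j := n) (by simp)
  · rw [Nat.card_congr (Equiv.subtypeSubtypeEquivSubtypeExists _ _)]
    refine (card_fiber_le C.1 fun D ⟨hD, h⟩ => funext fun i => (h2 ⟨D, hD⟩ i).symm.trans
      ((congrArg _ (congrArg (·.1 i) h)).trans (h2 C i))).trans_eq (congrArg Subgroup.index ?_)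
    simp [pwr, h3, hz.ne']

theorem card_sl_le [NeZero n] : Nat.card (ConjClasses (SpecialLinearGroup (Fin n) F)) * (Nat.card F - 1) ≤
    wt (Nat.card F - 1) (Nat.card F) n n := by
  simpa [Sim.refl] using card_fixed_le (n := n) (z := (1 : F)) (by simp)

end Cfsg.Lib.GLC
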