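import Cfsg.Agent.Lib.GLC.Cent

/-!
# Endomorphisms of prime order without fixed vectors; endomorphisms with irreducible minimal polynomial
-/

set_option autoImplicit false

namespace Cfsg.Lib.GLC

open Module Polynomial LinearMap

variable {F : Type*} [Field F] {V : Type*} [AddCommGroup V] [Module F V] {f : End F V}

/-- A vector whose annihilator is that of the whole space. -/
theorem exists_vector_aeval [Module.Finite F V] (f : End F V) :
    ∃ w : V, ∀ Q : F[X], aeval f Q w = 0 → aeval f Q = 0 := by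
  obtain ⟨x, hx⟩ := exists_ker_toSpanSingleton_eq_annihilator F[X] (AEval' f)
  obtain ⟨w, rfl⟩ := (AEval'.of f).surjective x
  refine ⟨w, fun Q hQ => LinearMap.ext fun v => ?_⟩
  have : Q ∈ annihilator F[X] (AEval' f) := by
    rw [← hx, mem_ker, toSpanSingleton_apply, ← AEval.of_aeval_smul]
    exact (LinearEquiv.map_eq_zero_iff _).2 hQ
  have := mem_annihilator.1 this (AEval'.of f v)
  rw [← AEval.of_aeval_smul] at this
  exact (LinearEquiv.map_eq_zero_iff _).1 this

theorem comp_aeval_of_comp {g T : End F V} (h : T * f = g * T) (Q : F[X]) : T * aeval f Q = aeval g Q * T := by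
  induction Q using Polynomial.induction_on with
  | C a => simp [Algebra.algebraMap_eq_smul_one]
  | add P Q hP hQ => simp [mul_add, add_mul, hP, hQ]
  | monomial n a h' => rw [pow_succ, ← mul_assoc, map_mul, map_mul (aeval g) _ X, aeval_X, aeval_X, ← mul_assoc, h',
      mul_assoc, h, ← mul_assoc]

/-- If an irreducible polynomial kills `f`, the centraliser of `f` is transitive on the non-zero vectors. -/
theorem exists_commute_map_eq [Module.Finite F V] {φ : F[X]} (hφ : Irreducible φ) (h : aeval f φ = 0) {v w : V}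
    (hv : v ≠ 0) (hw : w ≠ 0) : ∃ T : V ≃ₗ[F] V, T v = w ∧ ∀ u, T (f u) = f (T u) := by
  haveI := Fact.mk hφ
  let l : AdjoinRoot φ →+* End F V := Ideal.Quotient.lift _ (aeval f).toRingHom fun a ha => by
    obtain ⟨b, rfl⟩ := Ideal.mem_span_singleton'.1 ha
    simp [h]
  have hl : ∀ R, l (AdjoinRoot.mk φ R) = aeval f R := fun _ => rfl
  letI : Module (AdjoinRoot φ) V := Module.compHom V l
  have hs : ∀ R u, AdjoinRoot.mk φ R • u = aeval f R u := fun _ _ => rfl
  haveI : IsScalarTower F (AdjoinRoot φ) V := .of_algebraMap_smul fun a u => by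
    rw [AdjoinRoot.algebraMap_eq, ← AdjoinRoot.mk_C, hs]; simp
  obtain ⟨g, hg⟩ := Submodule.exists_linearEquiv_restrict_eq
    ((LinearEquiv.toSpanNonzeroSingleton (AdjoinRoot φ) V v hv).symm ≪≫ₗ
      LinearEquiv.toSpanNonzeroSingleton (AdjoinRoot φ) V w hw)
  refine ⟨g.restrictScalars F, ?_, fun u => ?_⟩
  · have := hg ⟨v, Submodule.mem_span_singleton_self v⟩
    rw [LinearEquiv.trans_apply, ← LinearEquiv.toSpanNonzeroSingleton_one (AdjoinRoot φ) V v hv,
      LinearEquiv.symm_apply_apply, LinearEquiv.toSpanNonzeroSingleton_one,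
      LinearEquiv.toSpanNonzeroSingleton_one] at this
    exact this.symm
  · have := g.map_smul (AdjoinRoot.mk φ X) u
    rwa [hs, hs, aeval_X] at this

variable [Finite F] [Module.Finite F V] {q : ℕ}

theorem typ_fpf (hq : q.Prime) (hqF : (q : F) ≠ 0) (h1 : f ^ q = 1) (h2 : ∀ v, f v = v → v = 0) {P : F[X]}
    (hP : P ∈ typ f) : P.Monic ∧ Irreducible P ∧ P ∣ X ^ q - 1 ∧ P ≠ X - 1 ∧
      P.natDegree = orderOf (Nat.card F : ZMod q) := by
  have hi := isSemisimple_iff_typ.1 (isSemisimple_of_pow_eq hqF one_ne_zero (h1.trans (one_smul F _).symm)) P hP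
  have hd := (blocks_typ f).pow_eq_one_iff.1 h1 P hP
  have hne : P ≠ X - 1 := by
    rintro rfl
    have : IsUnit (aeval f (X - 1 : F[X])) := (LinearMap.isUnit_iff_ker_eq_bot _).2 (eq_bot_iff.2 fun v hv =>
      h2 v (by simpa [sub_eq_zero] using hv))
    exact hi.not_isUnit (isCoprime_self.1 ((blocks_typ f).isUnit_aeval_iff.1 this _ hP))
  exact ⟨(typ_pp f P hP).monic, hi, hd, hne, natDegree_of_dvd_X_pow_prime (typ_pp f P hP).monic hi hq hd hne⟩

omit [Finite F] [Module.Finite F V] in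
theorem fpf_pow (hq : q.Prime) (h1 : f ^ q = 1) (h2 : ∀ v, f v = v → v = 0) {i : ℕ} (hi : ¬ q ∣ i) (v : V)
    (h : (f ^ i) v = v) : v = 0 := by
  obtain ⟨m, -, hm⟩ := Nat.exists_mul_mod_eq_one_of_coprime ((hq.coprime_iff_not_dvd.2 hi).symm) hq.one_lt
  have : f = (f ^ i) ^ m := by rw [← pow_mul, ← Nat.div_add_mod (i * m) q, hm, pow_add, pow_mul, h1]; simp
  refine h2 v ?_
  rw [this, Module.End.pow_apply]
  exact Function.iterate_fixed h m

theorem typ_fpf_eq (hq : q.Prime) (h0 : orderOf (Nat.card F : ZMod q) = q - 1) (h1 : f ^ q = 1)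
    (h2 : ∀ v, f v = v → v = 0) {P : F[X]} (hP : P ∈ typ f) :
    P = ∑ i ∈ Finset.range q, X ^ i ∧ Irreducible P := by
  have := hq.two_le
  obtain ⟨hm, hi, hd, hne, hn⟩ := typ_fpf hq (by
    haveI := Fact.mk hq
    intro h
    obtain ⟨p, hp⟩ := CharP.exists F
    letI := Fintype.ofFinite F
    obtain ⟨n, hpp, hn⟩ := FiniteField.card F p
    obtain rfl := ((Nat.prime_dvd_prime_iff_eq hpp hq).1 ((CharP.cast_eq_zero_iff F p q).1 h))
    rw [Nat.card_eq_fintype_card, hn, Nat.cast_pow, ZMod.natCast_self, zero_pow n.ne_zero,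
      orderOf_zero] at h0
    omega) h1 h2 hP
  refine ⟨?_, hi⟩
  rw [← mul_geom_sum] at hd
  have hd' := (hi.prime.dvd_or_dvd hd).resolve_left fun h => hne
    (eq_of_monic_of_associated hm (monic_X_sub_C 1) (hi.associated_of_dvd (irreducible_X_sub_C 1) h))
  refine (eq_of_monic_of_dvd_of_natDegree_le hm (monic_geom_sum_X hq.ne_zero) hd' ?_).symm
  rw [hn, h0]
  exact natDegree_sum_le_of_forall_le _ _ fun i hi => by
    rw [natDegree_X_pow]; have := Finset.mem_range.1 hi; omega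

/-- If `|F|` is a primitive root modulo `q`, fixed-point-free endomorphisms of order `q` are similar. -/
theorem sim_of_fpf {g : End F V} (hq : q.Prime) (h0 : orderOf (Nat.card F : ZMod q) = q - 1) (h1 : f ^ q = 1)
    (h2 : ∀ v, f v = v → v = 0) (h1' : g ^ q = 1) (h2' : ∀ v, g v = v → v = 0) : Sim f g := by
  have e1 := Multiset.eq_replicate_card.2 fun P hP => (typ_fpf_eq hq h0 h1 h2 hP).1
  have e2 := Multiset.eq_replicate_card.2 fun P hP => (typ_fpf_eq hq h0 h1' h2' hP).1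
  have := (blocks_typ f).finrank_eq.symm.trans (blocks_typ g).finrank_eq
  rw [e1, e2, Multiset.map_replicate, Multiset.map_replicate, Multiset.sum_replicate, Multiset.sum_replicate,
    smul_eq_mul, smul_eq_mul] at this
  rw [sim_iff_typ_eq]
  by_cases h : typ f = 0
  · by_contra h'
    obtain ⟨P, hP⟩ := Multiset.exists_mem_of_ne_zero (fun e => h' (h.trans e.symm))
    have h3 := (typ_pp g P hP).natDegree_pos
    rw [(typ_fpf_eq hq h0 h1' h2' hP).1] at h3
    rw [h, Multiset.card_zero, zero_mul, eq_comm, mul_eq_zero, Multiset.card_eq_zero] at this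
    exact this.elim (fun e => h' (h.trans e.symm)) h3.ne'
  · obtain ⟨P, hP⟩ := Multiset.exists_mem_of_ne_zero h
    have h3 := (typ_pp f P hP).natDegree_pos
    rw [(typ_fpf_eq hq h0 h1 h2 hP).1] at h3
    rw [e1, e2, Nat.eq_of_mul_eq_mul_right h3 this]

theorem exists_commute_of_fpf (hq : q.Prime) (h0 : orderOf (Nat.card F : ZMod q) = q - 1) (h1 : f ^ q = 1)
    (h2 : ∀ v, f v = v → v = 0) {v w : V} (hv : v ≠ 0) (hw : w ≠ 0) :
    ∃ T : V ≃ₗ[F] V, T v = w ∧ ∀ u, T (f u) = f (T u) := by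
  haveI : Nontrivial V := ⟨⟨v, 0, hv⟩⟩
  obtain ⟨P, hP⟩ := Multiset.exists_mem_of_ne_zero (typ_ne_zero f)
  refine exists_commute_map_eq (typ_fpf_eq hq h0 h1 h2 hP).2 ((blocks_typ f).aeval_eq_zero_iff.2 fun Q hQ => ?_) hv hw
  rw [(typ_fpf_eq hq h0 h1 h2 hP).1, (typ_fpf_eq hq h0 h1 h2 hQ).1]

/-- Converse: transitivity of the normaliser of `f` on vectors and on the powers of `f`. -/
theorem orderOf_card_of_fpf [Nontrivial V] (hq : q.Prime) (hqF : (q : F) ≠ 0) (h1 : f ^ q = 1)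
    (h2 : ∀ v, f v = v → v = 0)
    (h3 : ∀ v w : V, v ≠ 0 → w ≠ 0 → ∃ (T : End F V) (j : ℕ), T v = w ∧ ¬ q ∣ j ∧ T * f = f ^ j * T)
    (h4 : ∀ i, ¬ q ∣ i → Sim f (f ^ i)) : orderOf (Nat.card F : ZMod q) = q - 1 := by
  obtain ⟨φ, hP⟩ := Multiset.exists_mem_of_ne_zero (typ_ne_zero f)
  obtain ⟨hm, hi, hd, hne, hn⟩ := typ_fpf hq hqF h1 h2 hP
  obtain ⟨v, hv, hv0⟩ : ∃ v, aeval f φ v = 0 ∧ v ≠ 0 := by
    by_contra! h
    exact hi.not_isUnit (isCoprime_self.1 ((blocks_typ f).isUnit_aeval_iff.1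
      ((LinearMap.isUnit_iff_ker_eq_bot _).2 (eq_bot_iff.2 fun v hv => h v hv)) _ hP))
  obtain ⟨w, hw⟩ := exists_vector_aeval f
  have hw0 : w ≠ 0 := fun e => one_ne_zero (α := End F V) (by simpa using hw 1 (by simp [e]))
  obtain ⟨T, j, hT, hj, hTf⟩ := h3 v w hv0 hw0
  have h5 : aeval (f ^ j) φ = 0 := by
    have e : aeval f (expand F j φ) = aeval (f ^ j) φ := expand_aeval j φ f
    rw [← e]
    refine hw _ ?_
    rw [e, ← hT, ← Module.End.mul_apply, ← comp_aeval_of_comp hTf, Module.End.mul_apply, hv, map_zero]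
  have h6 : aeval f φ = 0 := ((h4 j hj).aeval φ).eq_zero_iff.2 h5
  haveI := Fact.mk hi
  haveI := Fact.mk hq
  have ho : orderOf (AdjoinRoot.root φ) = q := ((Nat.dvd_prime hq).1 (dvd_X_pow_sub_one_iff.1 hd)).resolve_left
    fun e => hne (eq_of_monic_of_associated hm (monic_X_sub_C 1) (hi.associated_of_dvd (irreducible_X_sub_C 1)
      (by simpa using dvd_X_pow_sub_one_iff.2 e.dvd)))
  refine le_antisymm ?_ ?_
  · refine Nat.le_of_dvd (by have := hq.two_le; omega) (orderOf_dvd_of_pow_eq_one (ZMod.pow_card_sub_one_eq_one ?_))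
    rintro e
    have := (typ_pp f φ hP).natDegree_pos
    rw [hn, e, orderOf_zero] at this
    exact this.false
  classical
  rw [← hn]
  have : ((Finset.Ico 1 q).image (AdjoinRoot.root φ ^ ·)).val ≤ φ.aroots (AdjoinRoot φ) := by
    refine (Multiset.le_iff_subset (Finset.nodup _)).2 fun a ha => ?_
    obtain ⟨i, hi', rfl⟩ := Finset.mem_image.1 (Finset.mem_def.2 ha)
    have hi' := Finset.mem_Ico.1 hi'
    have := (blocks_typ f).aeval_eq_zero_iff.1 ((expand_aeval i φ f).trans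
      (((h4 i (Nat.not_dvd_of_pos_of_lt hi'.1 hi'.2)).aeval φ).eq_zero_iff.1 h6)) φ hP
    rw [mem_aroots, ← expand_aeval, AdjoinRoot.aeval_eq, AdjoinRoot.mk_eq_zero]
    exact ⟨hi.ne_zero, this⟩
  have h7 := (Multiset.card_le_card this).trans ((card_roots' _).trans natDegree_map_le)
  rwa [← Finset.card_def, Finset.card_image_of_injOn fun a ha b hb e => pow_injOn_Iio_orderOf
    (ho ▸ (Finset.mem_Ico.1 ha).2) (ho ▸ (Finset.mem_Ico.1 hb).2) e, Nat.card_Ico] at h7

end Cfsg.Lib.GLC
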