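import Mathlib

/-!
The class number of a subgroup of index two.
-/

set_option autoImplicit false

namespace Cfsg.Lib.GLC

open Finset Subgroup

variable {G : Type*} [Group G]

open Classical in
theorem sum_card_centralizer [Fintype G] {p : G → Prop} (hp : ∀ x y, IsConj x y → p x → p y) :
    ∑ x with p x, Nat.card (centralizer {x}) = Nat.card {C : ConjClasses G // p C.out} * Nat.card G := by
  have := Fintype.ofFinite (ConjClasses G)
  have h1 : ∀ x : G, IsConj (ConjClasses.mk x).out x := fun x => Quotient.mk_out (s := IsConj.setoid G) x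
  rw [← sum_fiberwise_of_maps_to (g := ConjClasses.mk) (t := univ.filter fun C => p C.out) fun x hx => by
    simpa using hp _ _ (h1 x).symm (mem_filter.1 hx).2, Nat.card_eq_fintype_card (α := Subtype _), Fintype.card_subtype,
    ← smul_eq_mul, ← sum_const]
  refine sum_congr rfl fun C hC => ?_
  have h2 : ∀ x, ConjClasses.mk x = C → #{y | ConjClasses.mk y = C} * Nat.card (centralizer {x}) = Nat.card G := by
    rintro x rfl
    rw [Subgroup.nat_card_centralizer_nat_card_stabilizer, ← Nat.card_congr (ConjAct.ofConjAct (G := G)).toEquiv,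
      ← Nat.card_congr (MulAction.orbitProdStabilizerEquivGroup (ConjAct G) x), Nat.card_prod, ConjAct.orbit_eq_carrier_conjClasses,
      Nat.card_eq_fintype_card (α := ConjClasses.carrier _), Fintype.card_subtype]
    simp only [ConjClasses.mem_carrier_iff_mk_eq]
  rw [filter_filter, filter_congr (q := fun y => ConjClasses.mk y = C) fun x _ => and_iff_right_of_imp fun h =>
    hp _ _ (h ▸ h1 x) (mem_filter.1 hC).2, ← h2 _ C.out_eq, ← smul_eq_mul, ← sum_const]
  exact sum_congr rfl fun x hx => Nat.eq_of_mul_eq_mul_left (card_pos.2 ⟨x, hx⟩)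
    ((h2 x (mem_filter.1 hx).2).trans (h2 _ C.out_eq).symm)

theorem two_mul_card_ker [Finite G] (χ : G →* ℤˣ) (h : χ.ker.index = 2) : 2 * Nat.card (ConjClasses χ.ker) =
    Nat.card (ConjClasses G) + 3 * Nat.card {C : ConjClasses G // ∀ g, Commute C.out g → χ g = 1} := by
  classical
  have := Fintype.ofFinite G
  let P := {p : G × G // Commute p.1 p.2}
  have h1 : ∑ p : P, (χ p.1.2 : ℤ) = ∑ x with ∀ g, Commute x g → χ g = 1, Nat.card (centralizer {x}) := by
    rw [Nat.cast_sum, sum_filter, ← (Equiv.subtypeProdEquivSigmaSubtype Commute).symm.sum_comp, Fintype.sum_sigma]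
    refine sum_congr rfl fun x _ => ((Equiv.subtypeEquivRight fun y => mem_centralizer_singleton_iff.trans
      eq_comm).sum_comp _).symm.trans ?_
    change ∑ y : centralizer {x}, (χ y : ℤ) = _
    split_ifs with h
    · simp [sum_congr rfl fun (y : centralizer {x}) _ => congrArg Units.val (h y (mem_centralizer_singleton_iff.1 y.2).symm)]
    · exact sum_hom_units_eq_zero ((Units.coeHom ℤ).comp (χ.comp (centralizer {x}).subtype)) fun e => h fun g hg =>
        Units.ext (DFunLike.congr_fun e ⟨g, mem_centralizer_singleton_iff.2 hg.symm⟩ :)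
  replace h1 := h1.trans (congrArg Nat.cast (by
    convert sum_card_centralizer (p := fun x => ∀ g, Commute x g → χ g = 1) fun x y hxy hx g hg => ?_
    obtain ⟨c, rfl⟩ := isConj_iff.1 hxy
    have := hx (c⁻¹ * g * c) (by simpa [mul_assoc] using hg.conj c⁻¹)
    rwa [map_mul, map_mul, mul_right_comm, ← map_mul, inv_mul_cancel, map_one, one_mul] at this))
  have h2 : ∑ p : P, (χ p.1.1 : ℤ) = ∑ p : P, (χ p.1.2 : ℤ) :=
    ((Equiv.prodComm G G).subtypeEquiv fun _ => Commute.symm_iff).sum_comp fun p : P => (χ p.1.2 : ℤ)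
  have h3 : ∑ p : P, (χ p.1.1 * χ p.1.2 : ℤ) = ∑ p : P, (χ p.1.2 : ℤ) := by
    simpa using ((Equiv.prodShear (.refl G) Equiv.mulLeft).subtypeEquiv fun p => by
      simp [Commute, SemiconjBy, mul_assoc]).sum_comp fun p : P => (χ p.1.2 : ℤ)
  have h4 : ∑ p : P, (1 + χ p.1.1 : ℤ) * (1 + χ p.1.2) = 4 * Nat.card {p : χ.ker × χ.ker // Commute p.1 p.2} := by
    rw [sum_congr rfl (g := fun p => if χ p.1.1 = 1 ∧ χ p.1.2 = 1 then 4 else 0) fun p _ => by
      rcases Int.units_eq_one_or (χ p.1.1) with h | h <;> rcases Int.units_eq_one_or (χ p.1.2) with h' | h' <;>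
        simp [h, h'], ← sum_filter, sum_const, ← Fintype.card_subtype, ← Nat.card_eq_fintype_card, nsmul_eq_mul, mul_comm]
    congr 2
    exact (Nat.card_congr ⟨fun p => ⟨(⟨_, p.2.1⟩, ⟨_, p.2.2⟩), Subtype.ext p.1.2⟩,
      fun p => ⟨⟨(p.1.1, p.1.2), congrArg Subtype.val p.2⟩, p.1.1.2, p.1.2.2⟩, fun _ => rfl, fun _ => rfl⟩)
  simp only [add_mul, mul_add, one_mul, mul_one, sum_add_distrib, h1, h2, h3, sum_const, card_univ,
    ← Nat.card_eq_fintype_card, P, card_comm_eq_card_conjClasses_mul_card, ← χ.ker.index_mul_card, h] at h4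
  refine Nat.eq_of_mul_eq_mul_right (Nat.card_pos (α := χ.ker)) (Int.natCast_inj.1 ?_)
  push_cast [nsmul_eq_mul] at h4 ⊢
  linarith

theorem card_conjClasses_congr {H : Type*} [Group H] (e : G ≃* H) : Nat.card (ConjClasses G) = Nat.card (ConjClasses H) :=
  Nat.card_congr (Quotient.congr e.toEquiv fun _ _ =>
    ⟨e.toMonoidHom.map_isConj, fun h => show IsConj _ _ by simpa using e.symm.toMonoidHom.map_isConj h⟩)

theorem four_mul_card_inf [Finite G] (χ δ : G →* ℤˣ) (h : χ.ker.index = 2) {z : G} (hz : z ∈ center G) (h1 : χ z = 1)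
    (h2 : δ z = -1) : 4 * Nat.card (ConjClasses ↥(δ.ker ⊓ χ.ker)) =
      Nat.card (ConjClasses G) + 3 * Nat.card {C : ConjClasses G // ∀ g, Commute C.out g → χ g = 1} := by
  have h3 := two_mul_card_ker (δ.comp χ.ker.subtype) (by
    rw [index_ker, MonoidHom.range_eq_top.2 fun ε => (Int.units_eq_one_or ε).elim (fun e => ⟨1, by simp [e]⟩)
      fun e => ⟨⟨z, h1⟩, e ▸ h2⟩]
    simp)
  have : IsEmpty {C : ConjClasses χ.ker // ∀ g, Commute C.out g → δ.comp χ.ker.subtype g = 1} :=
    ⟨fun C => by simpa [h2] using C.2 ⟨z, h1⟩ (Subtype.ext (mem_center_iff.1 hz _))⟩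
  let e : (δ.comp χ.ker.subtype).ker ≃* ↥(δ.ker ⊓ χ.ker) :=
    (MulEquiv.subgroupCongr (inf_subgroupOf_right δ.ker χ.ker).symm).trans (subgroupOfEquivOfLe inf_le_right)
  rw [← two_mul_card_ker χ h, ← card_conjClasses_congr e]
  rw [Nat.card_of_isEmpty (α := Subtype _)] at h3
  omega

end Cfsg.Lib.GLC
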