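import Cfsg.Agent.Lib.GLC.Elus

/-!
# The number of nilpotent matrices (Fine–Herstein), by Fitting decomposition
-/

set_option autoImplicit false

namespace Cfsg.Lib.GLC.Nilp

open Module Polynomial LinearMap

variable {F : Type*} [Field F] {V V' : Type*} [AddCommGroup V] [Module F V] [AddCommGroup V']
  [Module F V']

theorem pow_apply_of {T : End F V} {U : Submodule F V} {N : End F U} (h : ∀ u : U, T u = N u)
    (k : ℕ) (u : U) : (T ^ k) u = (N ^ k) u := by
  induction k with
  | zero => rfl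
  | succ k ih => rw [pow_succ', pow_succ', End.mul_apply, End.mul_apply, ih, h]

theorem fit_left {T : End F V} {U W : Submodule F V} (h : IsCompl U W) {N : End F U} {A : End F W}
    (hN : IsNilpotent N) (hA : IsUnit A) (h1 : ∀ u : U, T u = N u) (h2 : ∀ w : W, T w = A w)
    (v : V) : v ∈ U ↔ ∃ k, (T ^ k) v = 0 := by
  constructor
  · intro hv
    obtain ⟨k, hk⟩ := hN
    exact ⟨k, by rw [show v = (⟨v, hv⟩ : U) from rfl, pow_apply_of h1, hk]; rfl⟩
  · rintro ⟨k, hk⟩
    obtain ⟨u, w, rfl, -⟩ := Submodule.existsUnique_add_of_isCompl h v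
    rw [map_add, pow_apply_of h1, pow_apply_of h2] at hk
    have h3 : ((A ^ k) w : V) ∈ U := by
      rw [← neg_eq_iff_add_eq_zero] at hk
      rw [← hk]; exact U.neg_mem ((N ^ k) u).2
    have h4 : (A ^ k) w = 0 := Subtype.ext ((Submodule.disjoint_def.1 h.disjoint) _ h3 ((A ^ k) w).2)
    have h5 : w = 0 := ((End.isUnit_iff _).1 (hA.pow k)).1 (by rw [h4, map_zero])
    rw [h5]; simp

theorem fit_right {T : End F V} {U W : Submodule F V} (h : IsCompl U W) {N : End F U} {A : End F W}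
    (hN : IsNilpotent N) (hA : IsUnit A) (h1 : ∀ u : U, T u = N u) (h2 : ∀ w : W, T w = A w)
    (v : V) : v ∈ W ↔ ∀ k, ∃ x, (T ^ k) x = v := by
  constructor
  · intro hv k
    obtain ⟨w, hw⟩ := ((End.isUnit_iff _).1 (hA.pow k)).2 ⟨v, hv⟩
    exact ⟨w, by rw [pow_apply_of h2, hw]⟩
  · intro hv
    obtain ⟨k, hk⟩ := hN
    obtain ⟨x, rfl⟩ := hv k
    obtain ⟨u, w, rfl, -⟩ := Submodule.existsUnique_add_of_isCompl h x
    rw [map_add, pow_apply_of h1, pow_apply_of h2, hk]
    simp

theorem exists_fit [Module.Finite F V] (T : End F V) : ∃ (U W : Submodule F V)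
    (hU : ∀ v ∈ U, T v ∈ U) (hW : ∀ v ∈ W, T v ∈ W), IsCompl U W ∧ IsNilpotent (T.restrict hU) ∧
      IsUnit (T.restrict hW) := by
  classical
  have h := blocks_typ T
  rw [← Multiset.filter_add_not (fun P => P.coeff 0 = 0) (typ T)] at h
  obtain ⟨U, W, hU, hW, hc, h1, h2⟩ := h.exists_isCompl
  refine ⟨U, W, hU, hW, hc, ⟨finrank F V, ?_⟩, h2.isUnit_iff.2 fun P hP => (Multiset.mem_filter.1 hP).2⟩
  have : aeval (T.restrict hU) (X ^ finrank F V : F[X]) = 0 := by
    rw [h1.aeval_eq_zero_iff]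
    intro P hP
    obtain ⟨hP, h0⟩ := Multiset.mem_filter.1 hP
    have hle := natDegree_le_of_mem (blocks_typ T) hP
    obtain ⟨φ, e, hm, hi, he, rfl⟩ := typ_pp T P hP
    have hX : φ = X := by
      have : X ∣ φ := Polynomial.prime_X.dvd_of_dvd_pow (X_dvd_iff.2 h0)
      exact (eq_of_monic_of_associated monic_X hm
        (irreducible_X.associated_of_dvd hi this)).symm
    subst hX
    exact pow_dvd_pow _ (by simpa using hle)
  simpa using this

variable (F V) in
/-- The Fitting decomposition as a bijection. -/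
theorem exists_equiv [Module.Finite F V] : Nonempty (
    (Σ P : {P : Submodule F V × Submodule F V // IsCompl P.1 P.2},
      {N : End F P.1.1 // IsNilpotent N} × (End F P.1.2)ˣ) ≃ End F V) := by
  let Ψ : (Σ P : {P : Submodule F V × Submodule F V // IsCompl P.1 P.2},
      {N : End F P.1.1 // IsNilpotent N} × (End F P.1.2)ˣ) → End F V := fun x =>
    LinearMap.ofIsCompl x.1.2 (x.1.1.1.subtype ∘ₗ x.2.1.1) (x.1.1.2.subtype ∘ₗ x.2.2.1)
  have h1 : ∀ x (u : x.1.1.1), Ψ x u = x.2.1.1 u := fun x u => LinearMap.ofIsCompl_apply_left _ _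
  have h2 : ∀ x (u : x.1.1.2), Ψ x u = x.2.2.1 u := fun x u => LinearMap.ofIsCompl_apply_right _ _
  refine ⟨Equiv.ofBijective Ψ ⟨?_, ?_⟩⟩
  · intro x y hxy
    have e1 : x.1.1.1 = y.1.1.1 := Submodule.ext fun v => by
      rw [fit_left x.1.2 x.2.1.2 x.2.2.isUnit (h1 x) (h2 x),
        fit_left y.1.2 y.2.1.2 y.2.2.isUnit (h1 y) (h2 y), hxy]
    have e2 : x.1.1.2 = y.1.1.2 := Submodule.ext fun v => by
      rw [fit_right x.1.2 x.2.1.2 x.2.2.isUnit (h1 x) (h2 x),
        fit_right y.1.2 y.2.1.2 y.2.2.isUnit (h1 y) (h2 y), hxy]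
    have h3 := h1 x
    have h4 := h2 x
    rw [hxy] at h3 h4
    have h5 := h1 y
    have h6 := h2 y
    obtain ⟨⟨⟨U, W⟩, h⟩, ⟨N, hN⟩, A⟩ := x
    obtain ⟨⟨⟨U', W'⟩, h'⟩, ⟨N', hN'⟩, A'⟩ := y
    dsimp only at e1 e2
    subst e1 e2
    obtain rfl : N = N' := LinearMap.ext fun u => Subtype.ext ((h3 u).symm.trans (h5 u))
    obtain rfl : A = A' := Units.ext (LinearMap.ext fun u => Subtype.ext ((h4 u).symm.trans (h6 u)))
    rfl
  · intro T
    obtain ⟨U, W, hU, hW, hc, hN, hA⟩ := exists_fit T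
    refine ⟨⟨⟨(U, W), hc⟩, ⟨_, hN⟩, hA.unit⟩, ?_⟩
    exact LinearMap.ofIsCompl_eq hc (fun u => rfl) (fun w => rfl)

theorem card_nil_congr (e : V ≃ₗ[F] V') :
    Nat.card {N : End F V // IsNilpotent N} = Nat.card {N : End F V' // IsNilpotent N} :=
  Nat.card_congr ((e.conjAlgEquiv F).toEquiv.subtypeEquiv fun N =>
    (IsNilpotent.map_iff (e.conjAlgEquiv F).injective).symm)

variable [Finite F]

/-- `|GL_m(q)|`. -/
def gq (q m : ℕ) : ℕ := q ^ (m * (m - 1) / 2) * ∏ i ∈ .range m, (q ^ (i + 1) - 1)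

theorem card_units_End [Module.Finite F V] : Nat.card (End F V)ˣ = gq (Nat.card F) (finrank F V) := by
  classical
  have := Fintype.ofFinite F
  rw [Nat.card_congr (Units.mapEquiv (toMatrixAlgEquiv (finBasis F V)).toMulEquiv).toEquiv]
  refine (Linear.card_GL (ι := Fin (finrank F V)) (F := F)).trans ?_
  rw [Linear.prod_pow_sub_pow, Fintype.card_fin, gq, Nat.card_eq_fintype_card]

theorem gq_pos {q : ℕ} (hq : 1 < q) (m : ℕ) : 0 < gq q m :=
  mul_pos (pow_pos (by omega) _) (Finset.prod_pos fun j _ =>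
    Nat.sub_pos_of_lt (Nat.one_lt_pow j.succ_ne_zero hq))

theorem tri_succ (m : ℕ) : (m + 1) * (m + 1 - 1) / 2 = m * (m - 1) / 2 + m := by
  rw [← Finset.sum_range_id, ← Finset.sum_range_id, Finset.sum_range_succ]

theorem gq_succ (q m : ℕ) : gq q (m + 1) = gq q m * (q ^ m * (q ^ (m + 1) - 1)) := by
  rw [gq, gq, tri_succ, Finset.prod_range_succ, pow_add]; ring

theorem tri_add (k l : ℕ) :
    (k + l) * (k + l - 1) / 2 = k * (k - 1) / 2 + l * (l - 1) / 2 + k * l := by
  induction l with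
  | zero => simp
  | succ l ih => rw [← add_assoc, tri_succ, tri_succ, ih]; ring

theorem card_pairs_mul [Module.Finite F V] {k l : ℕ} (h : finrank F V = k + l) :
    Nat.card {P : Submodule F V × Submodule F V // IsCompl P.1 P.2 ∧ finrank F P.1 = k} *
      (gq (Nat.card F) k * gq (Nat.card F) l) = gq (Nat.card F) (k + l) := by
  classical
  have : Finite V := Module.finite_of_finite F
  have := Fintype.ofFinite {W : Submodule F V // finrank F W = k}
  have e : {P : Submodule F V × Submodule F V // IsCompl P.1 P.2 ∧ finrank F P.1 = k} ≃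
      Σ U : {W : Submodule F V // finrank F W = k}, {W // IsCompl U.1 W} :=
    ⟨fun P => ⟨⟨_, P.2.2⟩, _, P.2.1⟩, fun P => ⟨(P.1.1, P.2.1), P.2.2, P.1.2⟩, fun _ => rfl,
      fun _ => rfl⟩
  have h1 : ∀ U : {W : Submodule F V // finrank F W = k},
      Nat.card {W // IsCompl U.1 W} = Nat.card F ^ (k * l) := fun U => by
    have := card_isCompl_mul U.1
    rw [U.2, h, add_mul, pow_add, mul_comm (Nat.card F ^ (k * k)), mul_comm l] at this
    exact Nat.eq_of_mul_eq_mul_right (pow_pos Nat.card_pos _) this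
  rw [Nat.card_congr e, Nat.card_sigma, Finset.sum_congr rfl fun U _ => h1 U, Finset.sum_const,
    Finset.card_univ, ← Nat.card_eq_fintype_card, smul_eq_mul]
  have h2 := nSub_mul (F := F) (V := V) (m := k) (by omega)
  have h3 : ∏ i ∈ .range (k + l), (Nat.card F ^ (i + 1) - 1) =
      (∏ j ∈ .range k, (Nat.card F ^ (finrank F V - j) - 1)) *
        ∏ i ∈ .range l, (Nat.card F ^ (i + 1) - 1) := by
    rw [add_comm k, Finset.prod_range_add, mul_comm, ← Finset.prod_range_reflect _ k]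
    exact congrArg (· * _) (Finset.prod_congr rfl fun j hj => by
      have := Finset.mem_range.1 hj; congr 2; omega)
  rw [gq, gq, gq, h3, ← h2, tri_add, pow_add, pow_add, nSub]
  ring

variable (F) in
/-- The number of nilpotent `k × k` matrices. -/
noncomputable def nu (k : ℕ) : ℕ := Nat.card {N : End F (Fin k → F) // IsNilpotent N}

theorem card_nil_eq_nu [Module.Finite F V] :
    Nat.card {N : End F V // IsNilpotent N} = nu F (finrank F V) :=
  card_nil_congr (finBasis F V).equivFun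

theorem sum_nu (n : ℕ) : ((Nat.card F : ℚ) ^ (n * n)) / gq (Nat.card F) n =
    ∑ k ∈ .range (n + 1), (nu F k : ℚ) / gq (Nat.card F) k := by
  classical
  have hq : 1 < Nat.card F := Finite.one_lt_card
  obtain ⟨e⟩ := exists_equiv F (Fin n → F)
  have := Fintype.ofFinite
    {P : Submodule F (Fin n → F) × Submodule F (Fin n → F) // IsCompl P.1 P.2}
  have : ∀ W : Submodule F (Fin n → F), Finite (End F W) := fun W => Module.finite_of_finite F
  have h1 := Nat.card_congr e
  rw [Nat.card_sigma, natCard_eq_pow_finrank (K := F) (V := End F (Fin n → F)), finrank_linearMap,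
    finrank_fin_fun, ← Finset.sum_fiberwise_of_maps_to (t := .range (n + 1))
      (g := fun P => finrank F P.1.1) (fun P _ => Finset.mem_range.2 (Nat.lt_succ_of_le
        ((Submodule.finrank_le _).trans (finrank_fin_fun F).le)))] at h1
  rw [← Nat.cast_pow, ← h1, Nat.cast_sum, Finset.sum_div]
  refine Finset.sum_congr rfl fun k hk => ?_
  obtain ⟨l, rfl⟩ := Nat.exists_eq_add_of_le (Nat.le_of_lt_succ (Finset.mem_range.1 hk))
  rw [Finset.sum_congr rfl (g := fun _ => nu F k * gq (Nat.card F) l), Finset.sum_const,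
    smul_eq_mul, ← card_pairs_mul (V := Fin (k + l) → F) (finrank_fin_fun F)]
  · have h2 : Nat.card {P : Submodule F (Fin (k + l) → F) × Submodule F (Fin (k + l) → F) //
        IsCompl P.1 P.2 ∧ finrank F P.1 = k} = (Finset.univ.filter fun P : {P : Submodule F
          (Fin (k + l) → F) × Submodule F (Fin (k + l) → F) // IsCompl P.1 P.2} =>
            finrank F P.1.1 = k).card := by
      rw [← Fintype.card_subtype, ← Nat.card_eq_fintype_card]
      exact Nat.card_congr (Equiv.subtypeSubtypeEquivSubtypeInter _ _).symm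
    have h3 := card_pairs_mul (F := F) (V := Fin (k + l) → F) (finrank_fin_fun F)
    have h4 := gq_pos hq (k + l)
    rw [← h3, h2] at h4
    rw [h2]
    have h5 : (gq (Nat.card F) k : ℚ) ≠ 0 := Nat.cast_ne_zero.2 (gq_pos hq k).ne'
    have h6 : (gq (Nat.card F) l : ℚ) ≠ 0 := Nat.cast_ne_zero.2 (gq_pos hq l).ne'
    have h7 := (Nat.cast_ne_zero (R := ℚ)).2 (Nat.pos_of_mul_pos_right h4).ne'
    push_cast
    field_simp
  · intro P hP
    have h2 := (Finset.mem_filter.1 hP).2
    have h3 := Submodule.finrank_add_eq_of_isCompl P.2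
    rw [finrank_fin_fun] at h3
    rw [Nat.card_prod, card_nil_eq_nu, card_units_End, h2, show finrank F P.1.2 = l by omega]

theorem nu_eq (n : ℕ) : nu F n = Nat.card F ^ (n * (n - 1)) := by
  have hq : 1 < Nat.card F := Finite.one_lt_card
  have h1 := sum_nu (F := F) n
  rcases n with _ | n
  · have : (nu F 0 : ℚ) = 1 := by simpa [gq] using h1.symm
    exact_mod_cast this
  rw [Finset.sum_range_succ, ← sum_nu, gq_succ] at h1
  have h5 : (gq (Nat.card F) n : ℚ) ≠ 0 := Nat.cast_ne_zero.2 (gq_pos hq n).ne'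
  have h6 : 1 ≤ Nat.card F ^ (n + 1) := Nat.one_le_pow _ _ (by omega)
  have h7 : (Nat.card F : ℚ) ≠ 0 := Nat.cast_ne_zero.2 (by omega)
  have h8 : (Nat.card F : ℚ) ^ (n + 1) - 1 ≠ 0 := by
    have : 1 < Nat.card F ^ (n + 1) := Nat.one_lt_pow (by omega) hq
    exact sub_ne_zero.2 (by exact_mod_cast this.ne')
  push_cast [h6] at h1
  field_simp at h1
  rw [← Nat.cast_inj (R := ℚ), Nat.add_sub_cancel]
  push_cast
  linear_combination -h1

end Cfsg.Lib.GLC.Nilp
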