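import Cfsg.Agent.Lib.GLC.Elus
import Cfsg.Agent.Lib.GLC.Nilp
import Cfsg.Agent.Lib.GLC.Diag
import Cfsg.Agent.Lib.Asch.Conv

/-!
Elements of prime order of `PSL` with a conjugate in a given subgroup.
-/

set_option autoImplicit false

namespace Cfsg.Lib.GLC

open Module Polynomial LinearMap Matrix Cfsg.Lib.Symp Cfsg.Geo Cfsg.Lib.Asch Nilp

theorem mul_card_dvd {G : Type*} [Group G] {H K N : Subgroup G} {r : ℕ} (h : r ∣ H.relIndex N) (h1 : K ≤ H)
    (h2 : K ≤ N) : r * Nat.card K ∣ Nat.card N := by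
  rw [← (H.subgroupOf N).index_mul_card]
  refine mul_dvd_mul h ?_
  rw [← Nat.card_congr (Subgroup.subgroupOfEquivOfLe h2).toEquiv]
  exact Subgroup.card_dvd_of_le (Subgroup.comap_mono h1)

theorem mul_card_dvd_of_normal {G : Type*} [Group G] {H K N : Subgroup G} [N.Normal] {r : ℕ} (h : r ∣ H.relIndex N)
    (h1 : K ≤ H) : r * Nat.card K ∣ Nat.card G := by
  refine (mul_dvd_mul h (Subgroup.card_dvd_of_le h1)).trans ?_
  rw [← (N.subgroupOf H).index_mul_card, ← N.index_mul_card, ← (H.subgroupOf N).index_mul_card, mul_left_comm,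
    ← Subgroup.inf_subgroupOf_right N, ← Subgroup.inf_subgroupOf_left H,
    Nat.card_congr (Subgroup.subgroupOfEquivOfLe inf_le_right).toEquiv,
    Nat.card_congr (Subgroup.subgroupOfEquivOfLe inf_le_left).toEquiv, Subgroup.inf_subgroupOf_right,
    Subgroup.inf_subgroupOf_left]
  exact mul_dvd_mul_right (Subgroup.relIndex_dvd_index_of_normal N H) _

section ZMod

variable {r : ℕ} [hr : Fact r.Prime] {s t : ZMod r} {A : Multiset (ZMod r)}

theorem count_aff (hs : s ≠ 0) (h : A.map (t + s * ·) = A) (a : ZMod r) : A.count (t + s * a) = A.count a := by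
  conv_lhs => rw [← h]
  exact Multiset.count_map_eq_count' _ _ (fun a b e => by simpa [hs] using e) a

theorem zmod_ne (k : ℕ) [k.AtLeastTwo] (h : ¬ r ∣ k) : (OfNat.ofNat k : ZMod r) ≠ 0 :=
  mt (ZMod.natCast_eq_zero_iff k r).1 h

theorem bad_one (h0 : s ≠ 0) (h1 : s ≠ 1) (h2 : s ≠ -1) (n : ℕ) :
    ({1, -1} + .replicate n 0 : Multiset (ZMod r)).map (t + s * ·) ≠ {1, -1} + .replicate n 0 := fun h => by
  have h3 : (2 : ZMod r) ≠ 0 ∧ (3 : ZMod r) ≠ 0 := by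
    clear h
    constructor <;> refine zmod_ne _ fun e => ?_ <;>
      obtain rfl := (Nat.prime_dvd_prime_iff_eq hr.out (by norm_num)).1 e <;> revert s <;> decide +revert
  have h4 := count_aff h0 h
  have h5 := congrArg Multiset.sum h
  have h6 := h4 0
  have h7 := h4 1
  simp [Multiset.count_cons, Multiset.count_singleton, Multiset.count_replicate] at h5 h6 h7
  rcases n with _ | _ | n <;> grind

theorem bad_two {n : ℕ} (h2 : r ≠ 2) (h3 : r = 3 → n ≠ 0 ∧ n ≠ 3) (h5 : r = 5 → n ≠ 2) :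
    ({1, 1, -2} + .replicate n 0 : Multiset (ZMod r)).map (t + -1 * ·) ≠ {1, 1, -2} + .replicate n 0 := fun h => by
  have h6 : (2 : ZMod r) ≠ 0 := zmod_ne _ (mt (Nat.prime_dvd_prime_iff_eq hr.out (by norm_num)).1 h2)
  have h7 : r ≠ 3 → (3 : ZMod r) ≠ 0 := fun e => zmod_ne _ (mt (Nat.prime_dvd_prime_iff_eq hr.out (by norm_num)).1 e)
  have h8 : r ≠ 5 → (5 : ZMod r) ≠ 0 := fun e => zmod_ne _ (mt (Nat.prime_dvd_prime_iff_eq hr.out (by norm_num)).1 e)
  have h9 : r = 3 → (3 : ZMod r) = 0 := by rintro rfl; rfl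
  have h13 : r ≠ 3 → (6 : ZMod r) ≠ 0 := fun e => by convert mul_ne_zero h6 (h7 e); norm_num
  have h14 : (4 : ZMod r) ≠ 0 := by convert mul_ne_zero h6 h6; norm_num
  have h4 := count_aff (by simp) h
  have h10 := h4 0
  have h11 := h4 1
  have h12 := h4 (-2)
  simp [Multiset.count_cons, Multiset.count_singleton, Multiset.count_replicate] at h10 h11 h12
  grind

theorem bad_three {n : ℕ} (h2 : r ≠ 2) (hn : 2 ≤ n) :
    (-1 ::ₘ .replicate n 0 : Multiset (ZMod r)).map (t + -1 * ·) ≠ -1 ::ₘ .replicate n 0 := fun h => by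
  have h6 : (2 : ZMod r) ≠ 0 := zmod_ne _ (mt (Nat.prime_dvd_prime_iff_eq hr.out (by norm_num)).1 h2)
  have h4 := count_aff (by simp) h
  have h10 := h4 0
  have h11 := h4 (-1)
  simp [Multiset.count_cons, Multiset.count_replicate] at h10 h11
  grind

theorem good_small (h : r = 3 ∨ r = 5) (h1 : A.card = r) (h2 : A.sum = 0) :
    ∃ t, (A.map (t + ·)).map (-·) = A.map (t + ·) := by
  obtain ⟨v, rfl⟩ := exists_univ_map_eq (n := Fin r) A (by simpa)
  rcases h with rfl | rfl <;> revert v <;> decide +revert +kernel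

end ZMod

variable {F V W : Type*} [Field F] [AddCommGroup V] [Module F V] [AddCommGroup W] [Module F W] {r : ℕ}
  {ι : Type} [Fintype ι] [DecidableEq ι] {H : Subgroup (GL ι F)}

/-- `f` is similar to an element of `H`. -/
def Into (H : Subgroup (GL ι F)) (f : End F V) : Prop := ∃ h ∈ H, Sim (toLin' h.1) f

/-- `f` is conjugate into `H` by an element of determinant `1`. -/
def IntoS (H : Subgroup (GL ι F)) (f : End F (ι → F)) : Prop :=
  ∃ x g : GL ι F, toLin' x.1 = f ∧ g ∈ specialLinear ι F ∧ g⁻¹ * x * g ∈ H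

theorem mem_sl_iff {g : GL ι F} : g ∈ specialLinear ι F ↔ g.1.det = 1 := Units.ext_iff

theorem forall_mem_sl {P : GL ι F → Prop} :
    (∀ x ∈ specialLinear ι F, P x) ↔ ∀ x : SpecialLinearGroup ι F, P (SpecialLinearGroup.toGL x) :=
  ⟨fun h x => h _ (mem_sl_iff.2 x.2), fun h x hx => by
    convert h ⟨x.1, mem_sl_iff.1 hx⟩
    exact Units.ext rfl⟩

theorem card_specialLinear : Nat.card (specialLinear ι F) = Nat.card (SpecialLinearGroup ι F) :=
  Nat.card_congr ⟨fun x => ⟨x.1.1, mem_sl_iff.1 x.2⟩, fun x => ⟨SpecialLinearGroup.toGL x, mem_sl_iff.2 x.2⟩,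
    fun _ => Subtype.ext (Units.ext rfl), fun _ => rfl⟩

theorem index_comap_toGL : (H.comap SpecialLinearGroup.toGL).index = H.relIndex (specialLinear ι F) := by
  rw [Subgroup.index_comap]
  congr 1
  exact le_antisymm (by rintro _ ⟨x, rfl⟩; exact mem_sl_iff.2 x.2) (forall_mem_sl.2 fun x => ⟨x, rfl⟩)

theorem intoS_iff {x : GL ι F} : IntoS H (toLin' x.1) ↔ ∃ g ∈ specialLinear ι F, g⁻¹ * x * g ∈ H :=
  ⟨fun ⟨_, g, h1, h2⟩ => ⟨g, Units.ext (toLin'.injective h1) ▸ h2⟩, fun ⟨g, h⟩ => ⟨x, g, rfl, h⟩⟩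

theorem fmt_one : (∀ x : SpecialLinearGroup ι F, (∃ z : F, (x ^ r).1 = z • 1) → (∀ z : F, x.1 ≠ z • 1) →
    ∃ P : SpecialLinearGroup ι F, P⁻¹ * x * P ∈ H.comap SpecialLinearGroup.toGL) ↔ ElSL r (IntoS H) := by
  refine .trans (forall₃_congr fun x _ _ => .trans ?_ (intoS_iff (x := SpecialLinearGroup.toGL x)).symm) forall_sl_iff
  simp only [Subgroup.mem_comap, map_mul, map_inv]
  rw [← not_iff_not]
  simp only [not_exists, not_and, forall_mem_sl]

theorem fmt_two : (∀ x ∈ specialLinear ι F, (∃ z : F, (x ^ r).1 = z • 1) → (∀ z : F, x.1 ≠ z • 1) →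
    ∃ g ∈ specialLinear ι F, g⁻¹ * x * g ∈ H) ↔ ElSL r (IntoS H) := by
  simp only [← intoS_iff, forall_mem_sl, ← map_pow]
  exact forall_sl_iff

theorem Into.sim {f : End F V} {g : End F W} (h : Into H f) (h' : Sim f g) : Into H g :=
  let ⟨x, h1, h2⟩ := h; ⟨x, h1, h2.trans h'⟩

theorem Into.smul {f : End F V} (hH : scalars ι F ≤ H) (h : Into H f) {c : F} (hc : c ≠ 0) : Into H (c • f) :=
  let ⟨x, h1, h2⟩ := h
  ⟨scGL ι (.mk0 c hc) * x, mul_mem (hH (scGL_mem _)) h1, by simpa [coe_scGL] using h2.smul c⟩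

theorem Into.of {f : End F V} {g : End F (ι → F)} (hg : IsUnit g) (h : Sim g f)
    (h' : ∀ x : GL ι F, toLin' x.1 = g → x ∈ H) : Into H f := by
  obtain ⟨x, hx⟩ : IsUnit (LinearMap.toMatrix' g) := hg.map toMatrixAlgEquiv'
  have : toLin' x.1 = g := by simp [hx]
  exact ⟨x, h' x this, this ▸ h⟩

theorem IntoS.into {f : End F (ι → F)} (h : IntoS H f) : Into H f :=
  let ⟨_, g, h1, _, h2⟩ := h
  ⟨_, h2, h1 ▸ gl_isConj_iff_sim.1 (isConj_iff.2 ⟨g, by group⟩)⟩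

theorem Into.intoS {f : End F (ι → F)} (h : Into H f) (h' : ∀ d, ∃ y ∈ H, d * GeneralLinearGroup.det y ∈ detC f) :
    IntoS H f := by
  obtain ⟨x, h1, h2⟩ := h
  obtain ⟨u, hu⟩ : IsUnit (LinearMap.toMatrix' f) :=
    (h2.isUnit_iff.1 (x.isUnit.map toLinAlgEquiv')).map toMatrixAlgEquiv'
  obtain rfl : toLin' u.1 = f := by simp [hu]
  obtain ⟨g, rfl⟩ := isConj_iff.1 (gl_isConj_iff_sim.2 h2.symm)
  obtain ⟨y, h3, h4⟩ := h' (GeneralLinearGroup.det g)
  obtain ⟨k, h5, h6⟩ := (exists_det_one_conj_iff (g := y * g)).2 (by rwa [map_mul, mul_comm])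
  refine intoS_iff.2 ⟨k⁻¹, inv_mem h5, ?_⟩
  rw [inv_inv, h6]
  convert mul_mem (mul_mem h3 h1) (inv_mem h3) using 1
  group

theorem ElSL.mono {P Q : End F V → Prop} (h : ElSL r P) (h' : ∀ f, P f → Q f) : ElSL r Q :=
  fun f h1 h2 h3 => h' f (h f h1 h2 h3)

theorem elSL_of [Module.Finite F V] [Nontrivial V] {P : End F V → Prop} (hr : r ≠ 0) (hP : ∀ f (c : F), c ≠ 0 → P f → P (c • f))
    (h1 : ∀ f (z : F), (∀ b, b ^ r ≠ z) → f ^ r = z • 1 → LinearMap.det f = 1 → P f)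
    (h2 : ∀ f (b : F), f ^ r = 1 → b ^ finrank F V * LinearMap.det f = 1 → (¬ ∃ c : F, f = c • 1) → P f) :
    ElSL r P := fun f h3 ⟨z, h4⟩ h5 => by
  by_cases h6 : ∃ b, b ^ r = z
  · obtain ⟨b, rfl⟩ := h6
    have hc := ne_zero_of_pow_eq ((LinearMap.isUnit_iff_isUnit_det f).2 (h3 ▸ isUnit_one)) h4
    have hb : b ≠ 0 := by rintro rfl; exact hc (zero_pow hr)
    rw [← smul_inv_smul₀ hb f] at h3 h5 ⊢
    exact hP _ _ hb (h2 _ b (by rw [_root_.smul_pow, h4, smul_smul, inv_pow, inv_mul_cancel₀ hc, one_smul])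
      (by rwa [LinearMap.det_smul] at h3) fun ⟨c, hc⟩ => h5 ⟨b * c, by rw [hc, smul_smul]⟩)
  · exact h1 f z (not_exists.1 h6) h4 h3

theorem ElSL.of_smul [Module.Finite F V] [Nontrivial V] {P : End F V → Prop} (h : ElSL r P)
    (hP : ∀ f (c : F), c ≠ 0 → P f → P (c • f)) {f : End F V} {b : F} (h1 : f ^ r = 1)
    (h2 : b ^ finrank F V * LinearMap.det f = 1) (h3 : ¬ ∃ c : F, f = c • 1) : P f := by
  have hb : b ≠ 0 := by rintro rfl; simp [finrank_pos.ne'] at h2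
  rw [← inv_smul_smul₀ hb f]
  exact hP _ _ (inv_ne_zero hb) (h _ (by rwa [LinearMap.det_smul]) ⟨b ^ r, by rw [_root_.smul_pow, h1]⟩
    fun ⟨c, hc⟩ => h3 ⟨b⁻¹ * c, by rw [mul_smul, ← hc, inv_smul_smul₀ hb]⟩)

section Form

variable {σ : F →+* F} {ε c : F} {φ : (ι → F) → (ι → F) → F} {g : End F (ι → F)}

theorem into_sim {f : End F V} (hg : IsUnit g) (h : Sim g f) (hc : c ≠ 0) (h' : ∀ u v, φ (g u) (g v) = c * φ u v) :
    Into (similarityGroup φ) f := .of hg h fun _ hx => ⟨.mk0 c hc, by subst hx; exact h'⟩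

theorem _root_.Cfsg.Lib.Asch.SForm.pow_eq [Nonempty ι] (h : SForm σ ε φ) (h' : ∀ u v, φ (g u) (g v) = c * φ u v) {k : ℕ} {z : F}
    (h1 : g ^ k = z • 1) : c ^ k = z * σ z := by
  have h2 : ∀ k u v, φ ((g ^ k) u) ((g ^ k) v) = c ^ k * φ u v := fun k u v => by
    induction k with
    | zero => simp
    | succ k ih => rw [pow_succ', End.mul_apply, End.mul_apply, h', ih, pow_succ', mul_assoc]
  obtain ⟨v, hv⟩ := exists_ne (0 : ι → F)
  obtain ⟨u, hu⟩ := not_forall.1 (mt (h.nondeg v) hv)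
  simpa [h1, h.smul_left, h.smul_right, ← mul_assoc, hu, eq_comm] using h2 k u v

theorem _root_.Cfsg.Lib.Asch.SForm.map_div (h : SForm σ ε φ) (hc : c ≠ 0) (h' : ∀ u v, φ (g u) (g v) = c * φ u v)
    {M : Multiset F} (hM : Blocks g (lt M)) : M.map (c / σ ·) = M := by
  obtain ⟨χ, rfl⟩ := exists_univ_map_eq (n := ι) M (by simpa using hM.lt_card)
  obtain ⟨e, he⟩ := (blocks_diagonal χ).sim hM
  have h1 : SForm σ ε fun u v => φ (e u) (e v) := ⟨by simp [h.add_left], by simp [h.smul_left], fun _ _ => h.herm _ _,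
    fun v hv => e.map_eq_zero_iff.1 (h.nondeg _ fun x => by simpa using hv (e.symm x)), h.invol, h.eps⟩
  have h2 := h1.det_ne
  rw [det_apply] at h2
  obtain ⟨π, -, h3⟩ := Finset.exists_ne_zero_of_sum_ne_zero h2
  have h4 : ∀ i, g (e (Pi.single i 1)) = χ i • e (Pi.single i 1) := fun i => by
    rw [← he, ← map_smul]; simp [← Pi.single_smul]
  conv_rhs => rw [← Multiset.map_univ_val_equiv π]
  rw [Multiset.map_map, Multiset.map_map]
  refine Multiset.map_congr rfl fun i _ => ?_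
  have h5 := h' (e (Pi.single (π i) 1)) (e (Pi.single i 1))
  rw [h4, h4, h.smul_left, h.smul_right, ← mul_assoc] at h5
  have h6 := mul_right_cancel₀ (Finset.prod_ne_zero_iff.1 (right_ne_zero_of_smul h3) i (Finset.mem_univ _)) h5
  exact (eq_div_of_mul_eq (right_ne_zero_of_mul (h6 ▸ hc)) h6).symm

end Form

variable [Finite F] [Module.Finite F V] {f : End F V}

theorem detC_eq_top_of_pow [Nontrivial V] (h : (r : F) ≠ 0 ∨ r = 2) {z : F} (hf : IsUnit f) (h1 : f ^ r = z • 1) :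
    detC f = ⊤ := by
  by_cases h0 : (r : F) = 0
  · obtain rfl := h.resolve_left (not_not.2 h0)
    haveI := (CharP.charP_iff_prime_eq_zero Nat.prime_two).2 h0
    refine detC_eq_top_of_char 2 fun P hP => ?_
    obtain ⟨φ, e, -, h2, h3, rfl⟩ := typ_pp f P hP
    have := ((pow_dvd_X_pow_sub_C_iff 2 h2 (ne_zero_of_pow_eq hf h1) two_ne_zero h3.ne').1
      ((blocks_typ f).pow_eq_smul_one_iff.1 h1 _ hP)).2
    rw [padicValNat_self] at this
    refine ⟨φ, h2, e - 1, ?_⟩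
    interval_cases e <;> rfl
  · exact detC_eq_top_of_isSemisimple (isSemisimple_of_pow_eq h0 (ne_zero_of_pow_eq hf h1) h1)

theorem elSL_intoS [Nonempty ι] (h : (r : F) ≠ 0 ∨ r = 2) : ElSL r (IntoS H) ↔ ElSL (V := ι → F) r (Into H) :=
  ⟨(·.mono fun _ => IntoS.into), fun h1 f h2 ⟨z, h3⟩ h4 => (h1 f h2 ⟨z, h3⟩ h4).intoS fun _ => ⟨1, one_mem _,
    detC_eq_top_of_pow h ((LinearMap.isUnit_iff_isUnit_det f).2 (h2 ▸ isUnit_one)) h3 ▸ trivial⟩⟩

theorem card_GL_eq_gq : Nat.card (GL ι F) = gq (Nat.card F) (Fintype.card ι) := by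
  rw [Nat.card_congr Matrix.GeneralLinearGroup.toLin.toEquiv, card_units_End, finrank_fintype_fun_eq_card]

theorem exists_pow_eq_neg_one_iff (h2 : (2 : F) ≠ 0) {n : ℕ} (hn : n ≠ 0) :
    (∃ b : F, b ^ n = -1) ↔ padicValNat 2 n < padicValNat 2 (Nat.card F - 1) := by
  have h1 : orderOf (-1 : Fˣ) = 2 ^ 1 := by
    rw [← orderOf_units, Units.coe_neg_one, orderOf_neg_one, if_neg (mt Orth.ringChar_eq_two_iff.1 h2), pow_one]
  have := exists_pow_eq_iff_padic h1 hn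
  rw [Nat.card_units, ← exists_ne_zero_pow_eq_iff] at this
  refine ⟨fun ⟨b, hb⟩ => ?_, fun h => (this.2 (.inr (by omega))).imp fun _ h => h.2⟩
  have := this.1 ⟨b, by rintro rfl; simp [hn] at hb, hb⟩
  omega

omit [Finite F] in
theorem exists_lt_two (h2 : (2 : F) ≠ 0) (hf : f ^ 2 = 1) :
    ∃ a b, a + b = finrank F V ∧ Blocks f (lt (.replicate a 1 + .replicate b (-1))) := by
  obtain ⟨k, ν, h1, h3⟩ := exists_typ_RF h2 hf
  have h4 : ν = .replicate ν.card (X - C (-1)) := Multiset.eq_replicate_card.2 fun φ hφ => by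
    obtain ⟨h4, h5, h6, h7⟩ := h1 φ hφ
    rw [show (X ^ 2 - 1 : F[X]) = (X - C 1) * (X - C (-1)) by simp only [map_neg, C_1]; ring] at h6
    rcases h5.prime.dvd_or_dvd h6 with h | h
    exacts [absurd (eq_of_monic_of_associated h4 (monic_X_sub_C _) (h5.associated_of_dvd (irreducible_X_sub_C _) h)) h7,
      eq_of_monic_of_associated h4 (monic_X_sub_C _) (h5.associated_of_dvd (irreducible_X_sub_C _) h)]
  have h5 : Blocks f (lt (.replicate k 1 + .replicate ν.card (-1))) := by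
    rw [lt_add, lt_replicate, lt_replicate, ← h4, ← h3]; exact blocks_typ f
  exact ⟨_, _, by simpa using h5.lt_card, h5⟩

variable [hr : Fact r.Prime] {P : End F V → Prop}

omit [Finite F] in
theorem pow_eq_one_iff_of_char (h : (r : F) = 0) : f ^ r = 1 ↔ (f - (1 : F) • 1) ^ r = 0 := by
  haveI := (CharP.charP_iff_prime_eq_zero hr.out).2 h
  simpa using pow_char_pow_eq_one_iff (f := f) r 1

omit [Finite F] in
theorem exists_jt_of_char (h : (r : F) = 0) (hf : f ^ r = 1) :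
    ∃ d : Multiset ℕ, (∀ a ∈ d, 0 < a ∧ a ≤ r) ∧ Blocks f (jt 1 d) := by
  rw [pow_eq_one_iff_of_char h] at hf
  obtain ⟨d, h1, h2⟩ := exists_jt hf
  exact ⟨d, fun a ha => ⟨h1 a ha, (h2 ▸ blocks_typ f).jt_pow_eq_zero_iff.1 hf a ha⟩, h2 ▸ blocks_typ f⟩

omit [Finite F] in
theorem ElSL.exists_jt (h : ElSL r P) (h0 : (r : F) = 0) {a k : ℕ} (h1 : 2 ≤ a) (h2 : a ≤ r) (hV : a + k = finrank F V) :
    ∃ f, P f ∧ f ^ r = 1 ∧ Blocks f (jt 1 (a ::ₘ .replicate k 1)) := by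
  obtain ⟨f, hf⟩ := exists_blocks_of_finrank (V := V) (jt_monic (1 : F) (a ::ₘ .replicate k 1))
    (by simpa [jt_map_natDegree])
  have h3 : f ^ r = 1 := (pow_eq_one_iff_of_char h0).2 (hf.jt_pow_eq_zero_iff.2 (by simp [Multiset.mem_replicate]; omega))
  refine ⟨f, h f (by simp [hf.jt_det]) ⟨1, by simpa⟩ fun ⟨c, hc⟩ => ?_, h3, hf⟩
  have := hf.natDegree_eq_one hc (Multiset.mem_map_of_mem _ (Multiset.mem_cons_self _ _))
  simp [-map_one] at this
  omega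

theorem ElSL.exists_RF (h : ElSL r P) (h0 : ¬ r ∣ Nat.card F - 1) {ν : Multiset F[X]} (h1 : ∀ φ ∈ ν, RF r φ) (h2 : ν ≠ 0)
    {k : ℕ} (hV : k + ν.card * orderOf (Nat.card F : ZMod r) = finrank F V) :
    ∃ f, P f ∧ f ^ r = 1 ∧ typ f = .replicate k (X - C 1) + ν := by
  obtain ⟨f, hf⟩ := exists_blocks_of_finrank (V := V) (fun P hP => (pp_RF h1 k P hP).monic)
    (by rw [map_natDegree_RF hr.out h1]; simpa)
  have h3 := pow_eq_one_RF h1 hf
  refine ⟨f, h f (det_eq_one_of_pow hr.out h0 h3) ⟨1, by simpa⟩ fun ⟨c, hc⟩ => ?_, h3, hf.typ_eq (pp_RF h1 k)⟩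
  obtain ⟨φ, hφ⟩ := Multiset.exists_mem_of_ne_zero h2
  have h4 := hf.natDegree_eq_one hc (Multiset.mem_add.2 (.inr hφ))
  have h5 := (h1 φ hφ).pp.natDegree_pos
  rw [(h1 φ hφ).natDegree_eq hr.out] at h4 h5
  exact h0 (orderOf_card_eq_one_iff.1 (by omega))

theorem not_kummer [Nontrivial V] (h : r ∣ Nat.card F - 1 → padicValNat r (finrank F V) ≤ padicValNat r (Nat.card F - 1) ∧
    (r = 2 → Even (finrank F V) → Nat.card F % 4 = 1)) (f : End F V) (z : F) (h1 : ∀ b, b ^ r ≠ z) (h2 : f ^ r = z • 1)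
    (h3 : LinearMap.det f = 1) : P f := by
  have h4 : r ∣ Nat.card F - 1 := by_contra fun e => (exists_pow_eq_of_not_dvd hr.out e z).elim h1
  obtain ⟨k, h5, -, h6⟩ := typ_of_kummer hr.out h1 h2
  exact absurd (h h4) ((exists_kummer_iff h4 finrank_pos.ne').1 ⟨z, k, h5, h1, h6 ▸ h3⟩)

theorem ElSL.exists_kummer [Nontrivial V] (h : ElSL r P) (h0 : r ∣ Nat.card F - 1)
    (h1 : padicValNat r (Nat.card F - 1) < padicValNat r (finrank F V)) :
    ∃ (f : End F V) (z : F), P f ∧ (∀ b, b ^ r ≠ z) ∧ f ^ r = z • 1 := by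
  obtain ⟨c, k, h2, h3, h4⟩ := (exists_kummer_iff h0 finrank_pos.ne').2 fun h => h1.not_ge h.1
  obtain ⟨f, h5, h6⟩ := GLC.exists_kummer hr.out h3 h2
  obtain ⟨l, h7, -, h8⟩ := typ_of_kummer hr.out h3 h5
  obtain rfl : k = l := Nat.eq_of_mul_eq_mul_right hr.out.pos (by rw [h2, h7])
  refine ⟨f, c, h f (h8.trans h4) ⟨c, h5⟩ fun ⟨d, hd⟩ => h3 d ?_, h3, h5⟩
  exact smul_one_pow_eq_iff.1 (hd ▸ h5)

theorem ElSL.exists_refl (h : ElSL 2 P) (hP : ∀ f (c : F), c ≠ 0 → P f → P (c • f)) (h2 : (2 : F) ≠ 0) {n : ℕ}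
    (hV : finrank F V = n + 1) (hn : n ≠ 0) (h1 : padicValNat 2 (n + 1) < padicValNat 2 (Nat.card F - 1)) :
    ∃ f, P f ∧ f ^ 2 = 1 ∧ Blocks f (lt (-1 ::ₘ .replicate n 1)) := by
  obtain ⟨b, hb⟩ := (exists_pow_eq_neg_one_iff h2 n.succ_ne_zero).2 h1
  obtain ⟨f, hf⟩ := exists_blocks_lt (V := V) (M := -1 ::ₘ .replicate n (1 : F)) (by simp [hV])
  haveI := finrank_pos_iff.1 (by omega : 0 < finrank F V)
  have h3 : f ^ 2 = 1 := by
    rw [← one_smul F 1, hf.lt_pow_eq_iff]; simp [Multiset.mem_replicate]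
  refine ⟨f, h.of_smul hP (b := b) h3 (by simp [hf.lt_det, hV, hb]) fun ⟨c, hc⟩ => h2 ?_, h3, hf⟩
  have := hf.lt_eq_smul_iff.1 hc
  linear_combination this 1 (by simp [hn, Multiset.mem_replicate]) - this (-1) (by simp)

theorem elSL_two [Nontrivial V] (hP : ∀ f (c : F), c ≠ 0 → P f → P (c • f)) (h2 : (2 : F) ≠ 0) (he : Even (finrank F V))
    (h : padicValNat 2 (Nat.card F - 1) ≤ padicValNat 2 (finrank F V))
    (h1 : ∀ f (z : F), (∀ b, b ^ 2 ≠ z) → f ^ 2 = z • 1 → P f)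
    (h3 : ∀ f a b, 2 * (a + b) = finrank F V → Blocks f (2 • lt (.replicate a 1 + .replicate b (-1 : F))) → P f) :
    ElSL 2 P := elSL_of two_ne_zero hP (fun f z h4 h5 _ => h1 f z h4 h5) fun f c h4 h5 _ => by
  obtain ⟨a, b, h6, h7⟩ := exists_lt_two h2 h4
  rcases b.even_or_odd with ⟨b, rfl⟩ | h8
  · obtain ⟨a, rfl⟩ : Even a := by grind
    refine h3 f a b (by omega) ?_
    rwa [two_nsmul, ← lt_add, add_add_add_comm, ← Multiset.replicate_add, ← Multiset.replicate_add]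
  · refine absurd ((exists_pow_eq_neg_one_iff h2 finrank_pos.ne').1 ⟨c, ?_⟩) h.not_gt
    simpa [h7.lt_det, h8.neg_one_pow, neg_eq_iff_eq_neg] using h5

theorem exists_chi (h : r ∣ Nat.card F - 1) :
    ∃ χ : AddChar (ZMod r) F, Function.Injective χ ∧ ∀ a, a ^ r = 1 → ∃ i, χ i = a := by
  obtain ⟨ω, -, h1⟩ := exists_orderOf_eq (K := F) h
  have h2 : IsPrimitiveRoot ω r := h1 ▸ IsPrimitiveRoot.orderOf ω
  exact ⟨.zmodChar r h2.pow_eq_one, fun a b e => ZMod.val_injective r (h2.pow_inj a.val_lt b.val_lt e),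
    fun a ha => let ⟨i, _, hi⟩ := h2.eq_pow_of_pow_eq_one ha; ⟨i, by rwa [AddChar.zmodChar_apply']⟩⟩

omit [Finite F] in
theorem prod_map_chi (χ : AddChar (ZMod r) F) (A : Multiset (ZMod r)) : (A.map χ).prod = χ A.sum := by
  induction A using Multiset.induction_on <;> simp [*, χ.map_add_eq_mul]

omit [Finite F] in
theorem chi_pow (χ : AddChar (ZMod r) F) (a : ZMod r) : χ a ^ r = 1 := by simp [← χ.map_nsmul_eq_pow]

/-- A diagonal element of order `r` whose eigenvalues have no affine symmetry of slope `s`. -/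
theorem ElSL.exists_bad (h : ElSL r P) (hP : ∀ f (c : F), c ≠ 0 → P f → P (c • f))
    (hr2 : r ≠ 2) (hq : r ∣ Nat.card F - 1) {n s : ℕ} (hV : finrank F V = n) (hn : 2 ≤ n) (h0 : (s : ZMod r) ≠ 0)
    (h1 : (s : ZMod r) ≠ 1) (h2 : (s : ZMod r) = -1 → 3 ≤ n ∧ ¬ (n = 6 ∧ r = 3) ∧
      ¬ ((r = 3 ∨ r = 5) ∧ n = r ∧ padicValNat r (Nat.card F - 1) = 1)) :
    ∃ f M, P f ∧ Blocks f (lt M) ∧ (∀ a ∈ M, a ^ r = 1) ∧ ∀ c, M.map (c * · ^ s) ≠ M := by
  obtain ⟨χ, h3, -⟩ := exists_chi hq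
  haveI := finrank_pos_iff.1 (by omega : 0 < finrank F V)
  obtain ⟨A, b, h4, h5, h6⟩ : ∃ (A : Multiset (ZMod r)) (b : F), A.card = n ∧ b ^ n * χ A.sum = 1 ∧
      ∀ t : ZMod r, A.map (t + s * ·) ≠ A := by
    by_cases h4 : (s : ZMod r) = -1
    · obtain ⟨h5, h6, h7⟩ := h2 h4
      by_cases h8 : (r = 3 ∨ r = 5) ∧ n = r
      · have h9 := one_le_padicValNat_of_dvd (Nat.card_units F ▸ Nat.card_pos).ne' hq
        obtain ⟨u, hu⟩ := IsUnit.of_pow_eq_one (chi_pow χ 1) hr.out.ne_zero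
        obtain ⟨b, hb⟩ := (exists_pow_eq_iff u r).2 (by
          rw [Nat.card_units, Nat.gcd_eq_left hq]
          exact (mul_dvd_mul_right (orderOf_dvd_of_pow_eq_one (Units.ext (by simp [hu, chi_pow]))) r).trans
            (sq r ▸ (padicValNat_dvd_iff_le (Nat.card_units F ▸ Nat.card_pos).ne').2 (by grind)))
        refine ⟨_, b, ?_, ?_, fun t => h4 ▸ bad_three (n := n - 1) hr2 (by omega)⟩
        · simp; omega
        rw [h8.2, ← Units.val_pow_eq_pow_val, hb, hu]; simp [← χ.map_add_eq_mul, h4]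
      · refine ⟨_, 1, ?_, ?_, fun t => h4 ▸ bad_two (n := n - 3) hr2 (by omega) (by omega)⟩ <;> norm_num
        omega
    · refine ⟨_, 1, ?_, ?_, fun t => bad_one h0 h1 h4 (n - 2)⟩ <;> simp
      omega
  obtain ⟨f, hf⟩ := exists_blocks_lt (V := V) (M := A.map χ) (by simp [h4, hV])
  have h7 : ∀ a ∈ A.map χ, a ^ r = 1 := Multiset.forall_mem_map_iff.2 fun a _ => chi_pow χ a
  obtain ⟨a, ha⟩ := Multiset.card_pos_iff_exists_mem.1 (by omega : 0 < A.card)
  have h8 : ∀ c, (A.map χ).map (c * · ^ s) ≠ A.map χ := fun c e => by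
    obtain ⟨j, -, hj⟩ := Multiset.mem_map.1 (e ▸ Multiset.mem_map_of_mem _ (Multiset.mem_map_of_mem χ ha) :
      c * χ a ^ s ∈ A.map χ)
    refine h6 (j - s * a) (Multiset.map_injective h3 (.trans ?_ e))
    simp only [Multiset.map_map, Function.comp_def]
    refine Multiset.map_congr rfl fun x _ => mul_right_cancel₀ (χ.val_isUnit (s • a)).ne_zero ?_
    rw [← χ.map_add_eq_mul, χ.map_nsmul_eq_pow, mul_right_comm, ← hj, ← χ.map_nsmul_eq_pow, ← χ.map_add_eq_mul]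
    congr 1; ring
  refine ⟨f, _, h.of_smul hP (b := b) (by rw [← one_smul F 1]; exact hf.lt_pow_eq_iff.2 h7)
    (by rwa [hf.lt_det, prod_map_chi, hV]) fun ⟨c, hc⟩ => h8 (c / c ^ s) ?_, hf, h7, h8⟩
  have h9 := hf.lt_eq_smul_iff.1 hc
  refine (Multiset.map_congr rfl fun x hx => ?_).trans (Multiset.map_id _)
  rw [h9 x hx, div_mul_cancel₀ _ (pow_ne_zero _ ?_), _root_.id]
  rintro rfl
  simpa [h9 x hx, hr.out.ne_zero] using h7 x hx

/-- For `n = r ∈ {3, 5}` and `(q - 1)_r = r` all elements of order `r` are real up to a scalar. -/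
theorem elSL_symm (hP : ∀ f (c : F), c ≠ 0 → P f → P (c • f)) (h : r = 3 ∨ r = 5)
    (hV : finrank F V = r) (hq : padicValNat r (Nat.card F - 1) = 1)
    (h1 : ∀ f M, Blocks f (lt M) → (∀ a ∈ M, a ^ r = 1) → M.map (·⁻¹) = M → (¬ ∃ c : F, f = c • 1) → P f) :
    ElSL r P := by
  have h2 := dvd_of_one_le_padicValNat hq.ge
  haveI := finrank_pos_iff.1 (by omega : 0 < finrank F V)
  refine elSL_of hr.out.ne_zero hP (not_kummer fun _ => ⟨by simp [hq, hV], by omega⟩) fun f b h3 h4 h5 => ?_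
  obtain ⟨χ, h6, h7⟩ := exists_chi h2
  obtain ⟨M, hM⟩ := exists_lt_of_pow h2 one_ne_zero (f := f) (by simpa)
  have h8 := hM.lt_pow_eq_iff.1 (h3.trans (one_smul F _).symm)
  obtain ⟨A, rfl⟩ : ∃ A : Multiset (ZMod r), A.map χ = M := by
    haveI : CanLift F (ZMod r) χ (· ^ r = 1) := ⟨h7⟩
    lift M to Multiset (ZMod r) using h8 with A
    exact ⟨A, rfl⟩
  rw [hM.lt_det, prod_map_chi, hV] at h4
  have h9 : χ A.sum = χ 0 := by
    have h9 : b ^ r ^ 2 = 1 := by simpa [mul_pow, chi_pow, ← pow_mul, sq] using congrArg (· ^ r) h4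
    obtain ⟨u, rfl⟩ := IsUnit.of_pow_eq_one h9 (pow_ne_zero _ hr.out.ne_zero)
    have h10 := orderOf_dvd_natCard u
    obtain ⟨k, -, h13⟩ := (Nat.dvd_prime_pow hr.out).1 (orderOf_dvd_of_pow_eq_one (x := u) (Units.ext h9))
    rw [h13, Nat.card_units, padicValNat_dvd_iff_le (Nat.card_units F ▸ Nat.card_pos).ne', hq] at h10
    rw [← Units.val_pow_eq_pow_val, orderOf_dvd_iff_pow_eq_one.1 (h13 ▸ (pow_dvd_pow r h10).trans (pow_one r).dvd)] at h4
    simpa using h4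
  obtain ⟨t, ht⟩ := good_small h (by simpa [hV] using hM.lt_card) (h6 h9)
  have h10 := (χ.val_isUnit t).ne_zero
  have h11 : (A.map χ).map (χ t * ·) = (A.map (t + ·)).map χ := by simp [χ.map_add_eq_mul]
  rw [← inv_smul_smul₀ h10 f]
  refine hP _ _ (inv_ne_zero h10) (h1 _ _ (h11 ▸ hM.smul_lt _) (Multiset.forall_mem_map_iff.2 fun a _ => chi_pow χ a) ?_
    fun ⟨c, hc⟩ => h5 ⟨(χ t)⁻¹ * c, by rw [mul_smul, ← hc, inv_smul_smul₀ h10]⟩)
  conv_rhs => rw [← ht]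
  simp only [Multiset.map_map, Function.comp_def, χ.map_neg_eq_inv]

end Cfsg.Lib.GLC
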