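import Cfsg.Agent.Lib.GLC.RealOrd

/-!
# Element orders in `PSp_{2n}(q)`: tools for the prime graph
-/

set_option autoImplicit false

namespace Cfsg.Lib.GLC

open Module Polynomial Matrix Homocyc

variable {F : Type*} [Field F] [Finite F] {n k l : ℕ}

theorem exists_sp_add (x : symplecticGroup (Fin k) F) (y : symplecticGroup (Fin l) F)
    (h : k + l ≤ n) : ∃ z : symplecticGroup (Fin n) F, orderOf x ∣ orderOf z ∧ orderOf y ∣ orderOf z := by
  obtain ⟨m, rfl⟩ := Nat.exists_eq_add_of_le h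
  obtain ⟨ψ, hψ⟩ := exists_sp_emb (F := F) k l
  obtain ⟨χ, hχ⟩ := exists_sp_emb (F := F) (k + l) m
  refine ⟨χ (ψ (x, y), 1), ?_⟩
  rw [orderOf_injective χ hχ, Prod.orderOf, orderOf_one, Nat.lcm_one_right, orderOf_injective ψ hψ,
    Prod.orderOf]
  exact ⟨Nat.dvd_lcm_left _ _, Nat.dvd_lcm_right _ _⟩

theorem mem_range_psp (h : Odd k ∨ (2 : F) = 0) :
    k ∈ Set.range (orderOf : Cfsg.PSp n F → ℕ) ↔ ∃ x : symplecticGroup (Fin n) F, k ∣ orderOf x := by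
  rw [mem_range_orderOf_iff, QuotientGroup.mk_surjective.exists]
  refine exists_congr fun x => ⟨fun h => h.trans (orderOf_map_dvd (QuotientGroup.mk' _) x), fun hx => ?_⟩
  have h1 := pow_orderOf_eq_one (x : Cfsg.PSp n F)
  rw [← QuotientGroup.mk_pow, QuotientGroup.eq_one_iff, Symp.mem_center_sp_iff] at h1
  rcases h1 with h1 | h1
  · exact hx.trans (orderOf_dvd_of_pow_eq_one h1)
  rcases h with h | h
  · refine h.coprime_two_right.dvd_of_dvd_mul_right (hx.trans (orderOf_dvd_of_pow_eq_one ?_))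
    rw [pow_mul, h1]
    exact Subtype.ext (by simp [pow_two])
  · refine hx.trans (orderOf_dvd_of_pow_eq_one (h1.trans (Subtype.ext ?_)))
    have : (-1 : F) = 1 := by linear_combination -h
    rw [Symp.coe_negOneSp, ← neg_one_smul F, this, one_smul]
    rfl

theorem dvd_add_one_iff {q r j : ℕ} (hq : 0 < q) (hr : r.Prime) (h2 : r ≠ 2) :
    r ∣ q ^ j + 1 ↔ orderOf (q : ZMod r) ∣ 2 * j ∧ ¬ orderOf (q : ZMod r) ∣ j := by
  have h1 := Nat.one_le_pow j q hq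
  have e : q ^ (2 * j) - 1 = (q ^ j + 1) * (q ^ j - 1) := by
    rw [mul_comm 2, pow_mul, ← Nat.sq_sub_sq, one_pow]
  rw [← dvd_pow_sub_one_iff hq, ← dvd_pow_sub_one_iff hq, e, hr.dvd_mul]
  refine ⟨fun h => ⟨.inl h, fun h' => h2 ((Nat.prime_dvd_prime_iff_eq hr Nat.prime_two).1 ?_)⟩,
    fun h => h.1.resolve_right h.2⟩
  have := Nat.dvd_sub h h'
  rwa [show q ^ j + 1 - (q ^ j - 1) = 2 by omega] at this

theorem exists_sp_eta {r η : ℕ} (hr : r.Prime) (h2 : r ≠ 2) (hk : k = orderOf (Nat.card F : ZMod r))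
    (h0 : k ≠ 0) (hη : (Odd k ∧ η = k) ∨ (Even k ∧ 2 * η = k)) :
    ∃ x : symplecticGroup (Fin η) F, r ∣ orderOf x := by
  rcases hη with ⟨-, rfl⟩ | ⟨-, h⟩
  · exact exists_sp_order_odd h0 ((dvd_pow_sub_one_iff Nat.card_pos).2 hk.symm.dvd)
  · refine exists_sp_order_even (by omega) ((dvd_add_one_iff Nat.card_pos hr h2).2 ?_) (by omega)
    rw [← hk, h]
    exact ⟨dvd_rfl, fun h' => by have := Nat.le_of_dvd (by omega) h'; omega⟩

theorem eta_le_of_dvd {η j : ℕ} (hη : (Odd k ∧ η = k) ∨ (Even k ∧ 2 * η = k)) (h : k ∣ 2 * j) :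
    η ∣ j := by
  rcases hη with ⟨ho, rfl⟩ | ⟨-, rfl⟩
  · exact ho.coprime_two_right.dvd_of_dvd_mul_left h
  · exact Nat.dvd_of_mul_dvd_mul_left two_pos h

theorem orderOf_dvd_two_mul {q r j N : ℕ} (hq : 0 < q) (hN : N = q ^ j + 1 ∨ N = q ^ j - 1)
    (h : r ∣ N) : orderOf (q : ZMod r) ∣ 2 * j := by
  rw [← dvd_pow_sub_one_iff hq, mul_comm 2, pow_mul, ← one_pow 2, Nat.sq_sub_sq]
  rcases hN with rfl | rfl
  exacts [h.mul_right _, h.mul_left _]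

theorem exists_dvd_of_dvd_card_psp [Nonempty (Fin n)] {r : ℕ} (hr : r.Prime) (h : ¬ r ∣ Nat.card F)
    (h' : r ∣ Nat.card (Cfsg.PSp n F)) : ∃ j, 0 < j ∧ j ≤ n ∧ orderOf (Nat.card F : ZMod r) ∣ 2 * j := by
  have h1 := h'.trans (Subgroup.card_quotient_dvd_card _)
  rw [Symp.card_sp, hr.dvd_mul, hr.prime.dvd_finsetProd_iff, Fintype.card_fin] at h1
  obtain ⟨i, hi, h1⟩ := h1.resolve_left fun h' => h (hr.dvd_of_dvd_pow h')
  exact ⟨i + 1, i.succ_pos, Finset.mem_range.1 hi, (dvd_pow_sub_one_iff Nat.card_pos).1 h1⟩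

theorem cl_sp (g : symplecticGroup (Fin n) F) : Cl (typ (toLin' g.1)) :=
  cl_typ_of_form (Symp.spE_sp g).nd (Symp.spE_sp g).isUnit (Symp.spE_sp g).inv

theorem not_dvd_sq_of_dvd_orderOf {φ : F[X]} {r : ℕ} (hr : r.Prime) (h2 : r ≠ 2)
    (h : r ∣ orderOf (AdjoinRoot.root φ)) : ¬ φ ∣ X ^ 2 - 1 := fun h' =>
  h2 ((Nat.prime_dvd_prime_iff_eq hr Nat.prime_two).1 (h.trans (dvd_X_pow_sub_one_iff.1 h')))

end Cfsg.Lib.GLC
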