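import Cfsg.Agent.Lib.GLC.Zsig

/-!
# The size of the primitive part of `q ^ n - 1`
-/

set_option autoImplicit false

namespace Cfsg.Lib.GLC

open Polynomial Finset ArithmeticFunction.Moebius

theorem quarter_le_prod (N : ℕ) :
    (1 / 4 : ℝ) + (1 / 2) ^ (N + 2) ≤ ∏ d ∈ Icc 1 (N + 1), (1 - (1 / 2 : ℝ) ^ d) := by
  induction N with
  | zero => norm_num
  | succ N ih =>
    rw [prod_Icc_succ_top (by omega)]
    have h1 : (1 / 2 : ℝ) ^ (N + 2) ≤ 1 / 4 := by
      rw [pow_add]; have := pow_le_one₀ (n := N) (a := (1 / 2 : ℝ)) (by norm_num) (by norm_num); linarith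
    have h2 : (0 : ℝ) < (1 / 2) ^ (N + 2) := by positivity
    rw [pow_succ _ (N + 2)]
    nlinarith [mul_le_mul_of_nonneg_right ih (show (0 : ℝ) ≤ 1 - (1 / 2) ^ (N + 2) by linarith)]

theorem pow_totient_le_four_mul {q : ℝ} (hq : 2 ≤ q) {n : ℕ} (hn : 0 < n) :
    q ^ n.totient ≤ 4 * (cyclotomic n ℝ).eval q := by
  have hq0 : 0 < q := by linarith
  have hg : ∀ d : ℕ, 0 < d → (1 / 2 : ℝ) ^ d < 1 ∧ 1 - (1 / 2 : ℝ) ^ d ≤ 1 - (q ^ d)⁻¹ := fun d hd =>
    ⟨pow_lt_one₀ (by norm_num) (by norm_num) hd.ne', by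
      rw [← inv_pow]
      have := pow_le_pow_left₀ (inv_pos.2 hq0).le (show q⁻¹ ≤ 1 / 2 by
        rw [one_div]; exact inv_anti₀ two_pos hq) d
      linarith⟩
  have h1 := (ArithmeticFunction.prod_eq_iff_prod_pow_moebius_eq_of_nonzero
    (f := fun i => (cyclotomic i ℝ).eval q / q ^ i.totient) (g := fun d => 1 - (q ^ d)⁻¹)
    (fun i hi => div_ne_zero (cyclotomic_pos' i (by linarith)).ne' (by positivity))
    (fun d hd => by have := hg d hd; linarith)).1 (fun m hm => by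
      rw [prod_div_distrib, ← eval_prod, prod_cyclotomic_eq_X_pow_sub_one hm, prod_pow_eq_pow_sum,
        Nat.sum_totient]
      simp [sub_div, hq0.ne']) n hn
  have h2 : ∏ x ∈ n.divisorsAntidiagonal, (1 - (1 / 2 : ℝ) ^ x.2) ≤ (cyclotomic n ℝ).eval q / q ^ n.totient := by
    rw [← h1]
    refine prod_le_prod (fun x hx => ?_) fun x hx => ?_
    · exact (sub_pos.2 (hg _ (Nat.pos_of_mem_divisors (Nat.snd_mem_divisors_of_mem_antidiagonal hx))).1).le
    obtain ⟨h3, h4⟩ := hg _ (Nat.pos_of_mem_divisors (Nat.snd_mem_divisors_of_mem_antidiagonal hx))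
    have h5 : 0 < (q ^ x.2)⁻¹ := by positivity
    rcases ArithmeticFunction.moebius_eq_or x.1 with h | h | h <;> rw [h]
    · simp
    · simpa using h4
    · rw [zpow_neg_one]
      refine le_trans ?_ ((one_le_inv₀ (by linarith)).2 (by linarith))
      simp
  rw [Nat.prod_divisorsAntidiagonal' (fun _ d => (1 - (1 / 2 : ℝ) ^ d))] at h2
  obtain ⟨N, rfl⟩ : ∃ N, n = N + 1 := ⟨n - 1, by omega⟩
  have h3 := prod_le_prod_of_subset_of_le_one (s := (N + 1).divisors) (t := Icc 1 (N + 1))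
    (f := fun d => (1 - (1 / 2 : ℝ) ^ d)) (fun d hd => mem_Icc.2 ⟨Nat.pos_of_mem_divisors hd, Nat.divisor_le hd⟩)
    (fun d hd => (sub_pos.2 (hg _ (mem_Icc.1 hd).1).1).le) (fun d _ _ => by simp)
  have h4 := quarter_le_prod N
  have h5 : (0 : ℝ) < (1 / 2) ^ (N + 2) := by positivity
  rw [le_div_iff₀ (by positivity)] at h2
  nlinarith [pow_pos hq0 (N + 1).totient]

theorem le_two_mul_totient_sq (n : ℕ) : n ≤ 2 * n.totient ^ 2 ∧ (Odd n → n ≤ n.totient ^ 2) := by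
  induction n using Nat.recOnPosPrimePosCoprime with
  | zero => simp
  | one => simp
  | prime_pow p k hp hk =>
    obtain ⟨k, rfl⟩ : ∃ j, k = j + 1 := ⟨k - 1, by omega⟩
    rw [Nat.totient_prime_pow_succ hp, pow_succ, mul_pow]
    have h1 : p ^ k ≤ (p ^ k) ^ 2 := Nat.le_self_pow two_ne_zero _
    have h3 : p ≠ 2 → p ^ k * p ≤ (p ^ k) ^ 2 * (p - 1) ^ 2 := fun h => Nat.mul_le_mul h1 (by
      obtain ⟨m, rfl⟩ : ∃ m, p = m + 3 := ⟨p - 3, by have := hp.two_le; omega⟩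
      simp only [show m + 3 - 1 = m + 2 by omega]; nlinarith)
    refine ⟨?_, fun h => h3 ?_⟩
    · rcases eq_or_ne p 2 with rfl | h
      · simp; omega
      · have := h3 h; omega
    · rintro rfl
      exact absurd h (by simp)
  | coprime a b _ _ hab ha hb =>
    rw [Nat.totient_mul hab, mul_pow]
    refine ⟨?_, fun h => Nat.mul_le_mul (ha.2 (Nat.odd_mul.1 h).1) (hb.2 (Nat.odd_mul.1 h).2)⟩
    rcases Nat.even_or_odd a with h | h
    · have := Nat.mul_le_mul ha.1 (hb.2 (Nat.coprime_two_left.1 (hab.coprime_dvd_left h.two_dvd)))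
      linarith
    · have := Nat.mul_le_mul (ha.2 h) hb.1
      linarith

theorem exists_prim_divisor {a n : ℕ} (ha : 1 < a) (hn : 2 < n) :
    ∃ m, m ∣ a ^ n - 1 ∧ (∀ r : ℕ, r.Prime → r ∣ m → orderOf (a : ZMod r) = n) ∧ a ^ n.totient ≤ 4 * (n * m) := by
  set N := ((cyclotomic n ℤ).eval (a : ℤ)).natAbs with hN
  have hNd : N ∣ a ^ n - 1 := by
    have := eval_dvd (x := (a : ℤ)) (cyclotomic.dvd_X_pow_sub_one n ℤ)
    rw [hN, ← Int.natCast_dvd_natCast, Int.natAbs_dvd, Nat.cast_sub (Nat.one_le_pow _ _ (by omega))]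
    simpa using this
  have hNl : a ^ n.totient ≤ 4 * N := by
    have h1 := pow_totient_le_four_mul (q := a) (by exact_mod_cast ha) (n := n) (by omega)
    rw [← Int.cast_natCast, ← eq_intCast (algebraMap ℤ ℝ), cyclotomic.eval_apply, eq_intCast, eq_intCast] at h1
    have h2 : (a : ℤ) ^ n.totient ≤ 4 * (cyclotomic n ℤ).eval (a : ℤ) := by exact_mod_cast h1
    have h3 : (cyclotomic n ℤ).eval (a : ℤ) ≤ N := Int.le_natAbs
    zify; linarith
  have h0 : ∀ r : ℕ, r.Prime → r ∣ N → orderOf (a : ZMod r) ≠ n →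
      ∃ k, n = r ^ (k + 1) * orderOf (a : ZMod r) ∧ orderOf (a : ZMod r) ∣ r - 1 := by
    intro r hr h hne
    haveI := Fact.mk hr
    obtain ⟨_ | k, h1, h3⟩ := eq_pow_mul_orderOf_of_dvd_cyclotomic (by omega) (Int.natCast_dvd.2 h)
    · exact absurd (by simpa using h1.symm) hne
    rw [Int.cast_natCast] at h1 h3
    exact ⟨k, h1, ZMod.orderOf_dvd_card_sub_one fun e => h3 (by simp [e])⟩
  by_cases H : ∀ r : ℕ, r.Prime → r ∣ N → orderOf (a : ZMod r) = n
  · exact ⟨N, hNd, H, hNl.trans (by gcongr; exact Nat.le_mul_of_pos_left _ (by omega))⟩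
  push Not at H
  obtain ⟨r, hr, hrN, hne⟩ := H
  have hle : ∀ {r s : ℕ}, r.Prime → r ∣ N → orderOf (a : ZMod r) ≠ n → s.Prime → s ∣ N →
      orderOf (a : ZMod s) ≠ n → s ≤ r := fun {r s} hr hrN hne hs hsN hne' => by
    obtain ⟨k, h1, h3⟩ := h0 r hr hrN hne
    obtain ⟨l, h4, -⟩ := h0 s hs hsN hne'
    rcases (Nat.Prime.dvd_mul hs).1 (h1 ▸ h4 ▸ (dvd_pow_self s l.succ_ne_zero).mul_right _ :) with h | h
    · exact Nat.le_of_dvd hr.pos (hs.dvd_of_dvd_pow h)
    · exact (Nat.le_of_dvd (by have := hr.two_le; omega) (h.trans h3)).trans (Nat.sub_le r 1)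
  obtain ⟨k, h1, h3⟩ := h0 r hr hrN hne
  set d := orderOf (a : ZMod r)
  have hd : d ≠ 0 := by rintro h; simp [h] at h1; omega
  have hd2 : r = 2 → d = 1 := by rintro rfl; simpa using h3
  have h5 : n = r ^ k * d * r := by rw [h1]; ring
  have h6' := not_sq_dvd_cyclotomic (a := a) (m := r ^ k * d) hr (by exact_mod_cast ha)
    (mul_ne_zero (pow_ne_zero _ hr.ne_zero) hd) (fun e => by
      rcases k with _ | k
      · simp [hd2 e, e] at h1; omega
      · simp [e, pow_succ]) (by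
      rw [← ZMod.intCast_zmod_eq_zero_iff_dvd]; simp [mul_comm _ d, pow_mul, d])
  rw [← h5, ← Nat.cast_pow, Int.natCast_dvd, ← hN] at h6'
  obtain ⟨m, hm⟩ := hrN
  refine ⟨m, (hm ▸ dvd_mul_left m r :).trans hNd, fun s hs hsm => by_contra fun e => h6' ?_, hNl.trans ?_⟩
  · have hsN : s ∣ N := hm ▸ hsm.mul_left r
    obtain rfl := (hle hr (hm ▸ dvd_mul_right r m) hne hs hsN e).antisymm
      (hle hs hsN e hr (hm ▸ dvd_mul_right r m) hne)
    rw [hm, sq]; exact mul_dvd_mul_left _ hsm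
  · rw [hm]; gcongr
    exact Nat.le_of_dvd (by omega) (h5 ▸ dvd_mul_left _ _)

/-- A candidate for the primitive part. -/
def primW (q n : ℕ) : ℕ := (q ^ n - 1) / Nat.gcd (q ^ n - 1) ((∏ i ∈ Ico 1 n, (q ^ i - 1)) ^ 3)

theorem prim_small : ∀ n ∈ range 43, ∀ q ∈ range 150, 3 ≤ n → 2 ≤ q → q ^ n.totient < 4 * (n * (3 * n + 1)) →
    (q, n) ∉ [(2, 6), (2, 4), (2, 10), (2, 12), (2, 18), (3, 4), (3, 6), (5, 6), (2, 3), (2, 8), (2, 20), (4, 3), (4, 6)] →
    (∀ i ∈ Ico 1 n, Nat.Coprime (primW q n) (q ^ i - 1)) ∧ 3 * n + 1 ≤ primW q n := by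
  decide +kernel

theorem tot_mid : ∀ n ∈ range 1153, 43 ≤ n →
    4 * (n * (3 * n + 1)) ≤ 2 ^ ((List.range (min n 130)).filter fun i => n.gcd i = 1).length := by
  decide +kernel

theorem tot_large {n : ℕ} (hn : 43 ≤ n) : 4 * (n * (3 * n + 1)) ≤ 2 ^ n.totient := by
  rcases lt_or_ge n 1153 with h | h
  · refine (tot_mid n (mem_range.2 h) hn).trans (Nat.pow_le_pow_right two_pos ?_)
    rw [Nat.totient, ← List.toFinset_card_of_nodup (List.nodup_range.filter _)]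
    refine card_le_card fun i hi => ?_
    simp only [List.toFinset_filter, List.toFinset_range, mem_filter, mem_range, decide_eq_true_eq] at hi ⊢
    exact ⟨by omega, hi.2⟩
  have h1 := (le_two_mul_totient_sq n).1
  have h2 : ∀ t, 25 ≤ t → 4 * (2 * t ^ 2 * (3 * (2 * t ^ 2) + 1)) ≤ 2 ^ t := fun t ht => by
    induction t, ht using Nat.le_induction with
    | base => norm_num
    | succ t ht ih =>
      rw [pow_succ 2]
      have : (t + 1) ^ 2 * 6 ≤ 7 * t ^ 2 := by nlinarith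
      nlinarith
  refine le_trans ?_ (h2 _ (by nlinarith))
  gcongr

theorem exists_large_prim_divisor {q n : ℕ} (hq : 2 ≤ q) (hn : 3 ≤ n)
    (h : (q, n) ∉ [(2, 6), (2, 4), (2, 10), (2, 12), (2, 18), (3, 4), (3, 6), (5, 6), (2, 3), (2, 8), (2, 20), (4, 3), (4, 6)]) :
    ∃ m : ℕ, m ∣ q ^ n - 1 ∧ (∀ i : ℕ, 1 ≤ i → i < n → Nat.Coprime m (q ^ i - 1)) ∧ 3 * n + 1 ≤ m := by
  rcases lt_or_ge (q ^ n.totient) (4 * (n * (3 * n + 1))) with h1 | h1
  · have h2 : n < 43 := by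
      by_contra! h2
      have := (tot_large h2).trans (Nat.pow_le_pow_left hq _)
      omega
    have h3 : q < 150 := by
      by_contra! h3
      have h4 : 2 ≤ n.totient := by
        have := Nat.totient_even (n := n) (by omega)
        have := Nat.totient_pos.2 (show 0 < n by omega)
        grind
      have := (Nat.pow_le_pow_left h3 2).trans (Nat.pow_le_pow_right (by omega) h4)
      nlinarith
    obtain ⟨h4, h5⟩ := prim_small n (mem_range.2 h2) q (mem_range.2 h3) hn hq h1 h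
    exact ⟨_, Nat.div_dvd_of_dvd (Nat.gcd_dvd_left _ _), fun i h6 h7 => h4 i (mem_Ico.2 ⟨h6, h7⟩), h5⟩
  obtain ⟨m, h2, h3, h4⟩ := exists_prim_divisor (a := q) hq hn
  refine ⟨m, h2, fun i h5 h6 => Nat.coprime_of_dvd fun r hr hrm hri => ?_, by
    have := h1.trans h4
    exact Nat.le_of_mul_le_mul_left (Nat.le_of_mul_le_mul_left this (by norm_num)) (by omega)⟩
  have h7 : orderOf (q : ZMod r) ∣ i := by
    rw [orderOf_dvd_iff_pow_eq_one, ← Nat.cast_pow, ← Nat.cast_one (R := ZMod r), ZMod.natCast_eq_natCast_iff']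
    exact ((Nat.modEq_iff_dvd' (Nat.one_le_pow _ _ (by omega))).2 hri).symm
  rw [h3 r hr hrm] at h7
  exact absurd (Nat.le_of_dvd h5 h7) (by omega)

end Cfsg.Lib.GLC
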